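import Cfsg.Agent.Lib.SU6U43.Lines
import Mathlib.GroupTheory.PGroup

/-!
In a triple cover of the group on 112 lines, the preimage of the normal subgroup of order 81 of a
point stabiliser is abelian of order at least 243.
-/

set_option autoImplicit false
set_option maxRecDepth 20000

namespace Cfsg.Agent.Lib.SU6U43

open MulAction
open Cfsg.Agent.Lib.Leech.U43 (runW lev1 lev2 lev3 chain_check runW_append)
open Cfsg.Agent.Lib.McL275 (LL wordP wordP_apply elL wordP_append)

/-- The four words. -/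
def dword (i : Fin 4) : List ℕ := Data.dw.getD i.val []

/-- The words of the 81 elements. -/
def pword (t : Fin 81) : List ℕ :=
  (List.finRange 4).flatMap fun i => (List.replicate (t.val / 3 ^ i.val % 3) (dword i)).flatten

/-- A conjugation index. -/
def nrmIdx (n : ℕ) (i : Fin 4) : Fin 81 := Fin.ofNat 81 ((Data.nrm.getD n []).getD i.val 0)

/-- Equality on the base points. -/
def eqB (w w' : List ℕ) : Bool := basePts.all fun p => runW w p == runW w' p

/-- A pair entry. -/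
def pairE (n : Fin 6) : ℕ × ℕ × ℕ × List ℕ := Data.pairs.getD n.val (0, 0, 0, [])

/-- The pair is as claimed. -/
def pairOk (n : Fin 6) : Bool :=
  let a := dword (Fin.ofNat 4 (pairE n).1)
  let b := dword (Fin.ofNat 4 (pairE n).2.1)
  let y := (pairE n).2.2.2
  match (pairE n).2.2.1 with
  | 0 => eqB (a ++ y ++ a) y && eqB (b ++ y) (y ++ b)
  | 1 => eqB (a ++ y) (y ++ a) && eqB (b ++ y ++ b) y
  | 2 => eqB (a ++ y) (y ++ b) && eqB (b ++ y) (y ++ a)
  | _ => eqB (a ++ y ++ b) y && eqB (b ++ y ++ a) y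

theorem d_checks :
    (∀ i, runW (dword i) 0 = 0 ∧ eqB (dword i ++ dword i ++ dword i) [] = true) ∧
    (∀ i j, eqB (dword i ++ dword j) (dword j ++ dword i) = true) ∧
    (((List.finRange 81).map fun t => basePts.map fun p => runW (pword t) p).Nodup) ∧
    (∀ n, pairOk n = true) ∧
    (∀ i j : Fin 4, i < j → ∃ n, (pairE n).1 = i.val ∧ (pairE n).2.1 = j.val) := by
  decide +kernel

theorem nrm_checks :
    (∀ b : Fin 81, ∀ i, eqB (dword i ++ lev1 b) (lev1 b ++ pword (nrmIdx b.val i)) = true) ∧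
    (∀ b : Fin 30, ∀ i, eqB (dword i ++ lev2 b) (lev2 b ++ pword (nrmIdx (81 + b.val) i)) = true) ∧
    (∀ b : Fin 12, ∀ i, eqB (dword i ++ lev3 b) (lev3 b ++ pword (nrmIdx (111 + b.val) i)) = true) := by
  decide +kernel

theorem elL_append (u v : List ℕ) : elL (u ++ v) = elL v * elL u :=
  Subtype.ext (wordP_append u v)

theorem elL_nil : elL [] = 1 := rfl

theorem of_eqB {w w' : List ℕ} (h : eqB w w' = true) : elL w = elL w' := by
  refine LL_ext fun p hp => ?_
  show wordP w p = wordP w' p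
  rw [wordP_apply, wordP_apply]
  exact eq_of_beq (List.all_eq_true.1 h p hp)

/-- The four elements. -/
noncomputable def dEl (i : Fin 4) : LL := elL (dword i)

/-- The subgroup of order 81. -/
noncomputable def D81 : Subgroup LL := Subgroup.closure (Set.range dEl)

theorem elL_mem_of {H : Subgroup LL} : ∀ (L : List (List ℕ)), (∀ w ∈ L, elL w ∈ H) →
    elL L.flatten ∈ H
  | [], _ => by rw [List.flatten_nil, elL_nil]; exact one_mem H
  | w :: L, h => by
    rw [List.flatten_cons, elL_append]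
    exact mul_mem (elL_mem_of L fun x hx => h x (List.mem_cons_of_mem _ hx)) (h w List.mem_cons_self)

theorem pword_mem (t : Fin 81) : elL (pword t) ∈ D81 := by
  refine elL_mem_of _ fun w hw => ?_
  obtain ⟨i, -, rfl⟩ := List.mem_map.1 hw
  refine elL_mem_of _ fun x hx => ?_
  rw [List.eq_of_mem_replicate hx]
  exact Subgroup.subset_closure ⟨i, rfl⟩

theorem D81_le : D81 ≤ stabilizer LL (0 : Fin 112) := by
  refine (Subgroup.closure_le _).2 ?_
  rintro _ ⟨i, rfl⟩
  show wordP (dword i) 0 = 0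
  rw [wordP_apply]
  exact (d_checks.1 i).1

theorem lev_conj {y : List ℕ} {n : ℕ}
    (h : ∀ i, eqB (dword i ++ y) (y ++ pword (nrmIdx n i)) = true) :
    ∀ x ∈ D81, elL y * x * (elL y)⁻¹ ∈ D81 := by
  intro x hx
  have : D81 ≤ D81.comap (MulAut.conj (elL y)).toMonoidHom := by
    refine (Subgroup.closure_le _).2 ?_
    rintro _ ⟨i, rfl⟩
    have e := of_eqB (h i)
    rw [elL_append, elL_append] at e
    show elL y * dEl i * (elL y)⁻¹ ∈ D81
    rw [show elL y * dEl i = elL (pword (nrmIdx n i)) * elL y from e, mul_inv_cancel_right]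
    exact pword_mem _
  exact this hx

theorem stab_conj {l : LL} (hl : l ∈ stabilizer LL (0 : Fin 112)) {x : LL} (hx : x ∈ D81) :
    l * x * l⁻¹ ∈ D81 := by
  obtain ⟨b, c, d, rfl⟩ := stab_decomp hl
  have h := lev_conj (fun i => nrm_checks.1 b i) _
    (lev_conj (fun i => nrm_checks.2.1 c i) _ (lev_conj (fun i => nrm_checks.2.2 d i) x hx))
  rw [elL_append, elL_append]
  convert h using 1
  group

/-! ### In a triple cover -/

variable {H : Type*} [Group H] (ψ : H →* LL)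

theorem comm_central {a b c d : H} (hc : ∀ h, h * c = c * h) (hd : ∀ h, h * d = d * h) :
    (a * c) * (b * d) * (a * c)⁻¹ * (b * d)⁻¹ = a * b * a⁻¹ * b⁻¹ := by
  have e1 : (a * c) * (b * d) = (a * b) * (c * d) := by
    rw [mul_assoc a c, ← mul_assoc c b d, ← hc b, mul_assoc b c d, ← mul_assoc a b]
  have e2 : (a * c)⁻¹ * (b * d)⁻¹ = a⁻¹ * b⁻¹ * (c * d)⁻¹ := by
    have e : (b * d) * (a * c) = (c * d) * (b * a) := by
      rw [mul_assoc b d, ← mul_assoc d a c, ← hd a, mul_assoc a d c, ← hd c, ← mul_assoc b a,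
        ← (show (b * a) * (c * d) = c * d * (b * a) by
          rw [← mul_assoc, hc (b * a), mul_assoc, hd (b * a), ← mul_assoc])]
    rw [← mul_inv_rev, e, mul_inv_rev, mul_inv_rev b a]
  have e3 : (c * d) * (a⁻¹ * b⁻¹) = (a⁻¹ * b⁻¹) * (c * d) := by
    rw [mul_assoc c d, ← hd, ← mul_assoc c, ← hc, mul_assoc]
  rw [mul_assoc ((a * c) * (b * d)), e2, e1, ← mul_assoc, mul_assoc (a * b) (c * d), e3,
    ← mul_assoc (a * b), mul_inv_cancel_right, mul_assoc (a * b)]

theorem comm_of_pair (hk : ∀ z ∈ ψ.ker, ∀ h, h * z = z * h) (h3 : Nat.card ψ.ker = 3)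
    {a b y : H} (hab : Commute (ψ a) (ψ b))
    (h : (ψ y * ψ a * (ψ y)⁻¹ = (ψ a)⁻¹ ∧ ψ y * ψ b * (ψ y)⁻¹ = ψ b) ∨
      (ψ y * ψ a * (ψ y)⁻¹ = ψ a ∧ ψ y * ψ b * (ψ y)⁻¹ = (ψ b)⁻¹) ∨
      (ψ y * ψ a * (ψ y)⁻¹ = ψ b ∧ ψ y * ψ b * (ψ y)⁻¹ = ψ a) ∨
      (ψ y * ψ a * (ψ y)⁻¹ = (ψ b)⁻¹ ∧ ψ y * ψ b * (ψ y)⁻¹ = (ψ a)⁻¹)) :
    a * b = b * a := by
  set z := a * b * a⁻¹ * b⁻¹ with hz
  have hzk : z ∈ ψ.ker := by
    rw [MonoidHom.mem_ker, hz, map_mul, map_mul, map_mul, map_inv, map_inv, hab.eq]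
    group
  have hzy : z = y * a * y⁻¹ * (y * b * y⁻¹) * (y * a * y⁻¹)⁻¹ * (y * b * y⁻¹)⁻¹ := by
    have e := hk z hzk y
    calc z = y * z * y⁻¹ := by rw [e, mul_inv_cancel_right]
      _ = _ := by rw [hz]; group
  have main : ∀ A B : H, ψ (y * a * y⁻¹) = ψ A → ψ (y * b * y⁻¹) = ψ B →
      z = A * B * A⁻¹ * B⁻¹ := by
    intro A B hA hB
    have hA' : A⁻¹ * (y * a * y⁻¹) ∈ ψ.ker := by rw [MonoidHom.mem_ker, map_mul, hA, ← map_mul, inv_mul_cancel, map_one]
    have hB' : B⁻¹ * (y * b * y⁻¹) ∈ ψ.ker := by rw [MonoidHom.mem_ker, map_mul, hB, ← map_mul, inv_mul_cancel, map_one]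
    have := comm_central (a := A) (b := B) (hk _ hA') (hk _ hB')
    rw [mul_inv_cancel_left, mul_inv_cancel_left, ← hzy] at this
    exact this
  have hba : b * a = z⁻¹ * (a * b) := by rw [hz]; group
  have hzc := hk z hzk
  have key : z = z⁻¹ := by
    have hzi := hk z⁻¹ (inv_mem hzk)
    rcases h with ⟨e1, e2⟩ | ⟨e1, e2⟩ | ⟨e1, e2⟩ | ⟨e1, e2⟩
    · refine (main a⁻¹ b (by simpa using e1) (by simpa using e2)).trans ?_
      have e : a⁻¹ * b * a⁻¹⁻¹ * b⁻¹ = a⁻¹ * z⁻¹ * a := by rw [hz]; group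
      exact e.trans (by rw [hzi a⁻¹, inv_mul_cancel_right])
    · refine (main a b⁻¹ (by simpa using e1) (by simpa using e2)).trans ?_
      have e : a * b⁻¹ * a⁻¹ * b⁻¹⁻¹ = b⁻¹ * z⁻¹ * b := by rw [hz]; group
      exact e.trans (by rw [hzi b⁻¹, inv_mul_cancel_right])
    · refine (main b a (by simpa using e1) (by simpa using e2)).trans ?_
      rw [hz]; group
    · refine (main b⁻¹ a⁻¹ (by simpa using e1) (by simpa using e2)).trans ?_
      have e : b⁻¹ * a⁻¹ * b⁻¹⁻¹ * a⁻¹⁻¹ = (a * b)⁻¹ * z⁻¹ * (a * b) := by rw [hz]; group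
      exact e.trans (by rw [hzi (a * b)⁻¹, inv_mul_cancel_right])
  have h2 : z ^ 2 = 1 := by
    rw [pow_two]; nth_rewrite 1 [key]; exact inv_mul_cancel z
  have h3' : z ^ 3 = 1 := by
    have := pow_card_eq_one' (x := (⟨z, hzk⟩ : ψ.ker))
    rw [h3] at this
    exact congrArg Subtype.val this
  have hz1 : z = 1 := by
    rw [pow_succ, h2, one_mul] at h3'
    exact h3'
  rw [hba, hz1, inv_one, one_mul]

theorem conj_of_eqB {w w' y : List ℕ} (h : eqB (w ++ y) (y ++ w') = true) :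
    elL y * elL w * (elL y)⁻¹ = elL w' := by
  have e := of_eqB h
  rw [elL_append, elL_append] at e
  rw [e, mul_inv_cancel_right]

theorem conj_of_eqB_inv {w w' y : List ℕ} (h : eqB (w ++ y ++ w') y = true) :
    elL y * elL w * (elL y)⁻¹ = (elL w')⁻¹ := by
  have e := of_eqB h
  rw [elL_append, elL_append] at e
  rw [eq_inv_iff_mul_eq_one]
  have e' : elL w' = elL y * (elL y * elL w)⁻¹ := by
    rw [eq_mul_inv_iff_mul_eq]; exact e
  rw [e']
  group

theorem pair_conj (n : Fin 6) :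
    let a := dEl (Fin.ofNat 4 (pairE n).1)
    let b := dEl (Fin.ofNat 4 (pairE n).2.1)
    let y := elL (pairE n).2.2.2
    (y * a * y⁻¹ = a⁻¹ ∧ y * b * y⁻¹ = b) ∨ (y * a * y⁻¹ = a ∧ y * b * y⁻¹ = b⁻¹) ∨
      (y * a * y⁻¹ = b ∧ y * b * y⁻¹ = a) ∨ (y * a * y⁻¹ = b⁻¹ ∧ y * b * y⁻¹ = a⁻¹) := by
  intro a b y
  have h := d_checks.2.2.2.1 n
  rcases hty : (pairE n).2.2.1 with _ | _ | _ | k <;>
    simp only [pairOk, hty, Bool.and_eq_true] at h
  · exact Or.inl ⟨conj_of_eqB_inv h.1, conj_of_eqB h.2⟩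
  · exact Or.inr (Or.inl ⟨conj_of_eqB h.1, conj_of_eqB_inv h.2⟩)
  · exact Or.inr (Or.inr (Or.inl ⟨conj_of_eqB h.1, conj_of_eqB h.2⟩))
  · exact Or.inr (Or.inr (Or.inr ⟨conj_of_eqB_inv h.1, conj_of_eqB_inv h.2⟩))

/-- The preimage. -/
noncomputable def pre81 : Subgroup H := D81.comap ψ

theorem pre81_facts (hψ : Function.Surjective ψ) (hk : ∀ z ∈ ψ.ker, ∀ h, h * z = z * h)
    (h3 : Nat.card ψ.ker = 3) [Finite H] :
    (∀ x ∈ pre81 ψ, ∀ y ∈ pre81 ψ, x * y = y * x) ∧ IsPGroup 3 (pre81 ψ) ∧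
      243 ≤ Nat.card (pre81 ψ) ∧ pre81 ψ ≤ (stabilizer LL (0 : Fin 112)).comap ψ ∧
      (∀ x ∈ (stabilizer LL (0 : Fin 112)).comap ψ, ∀ a ∈ pre81 ψ, x * a * x⁻¹ ∈ pre81 ψ) := by
  choose lift hlift using fun i => hψ (dEl i)
  have hdcomm : ∀ i j, Commute (dEl i) (dEl j) := fun i j => by
    have e := of_eqB (d_checks.2.1 i j)
    rw [elL_append, elL_append] at e
    exact e.symm
  have hd3 : ∀ i, dEl i * (dEl i * dEl i) = 1 := fun i => by
    have e := of_eqB (d_checks.1 i).2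
    rw [elL_append, elL_append, elL_nil] at e
    exact e
  have hlc : ∀ i j, lift i * lift j = lift j * lift i := by
    have hlt : ∀ i j : Fin 4, i < j → lift i * lift j = lift j * lift i := fun i j hij => by
      obtain ⟨n, hn1, hn2⟩ := d_checks.2.2.2.2 i j hij
      obtain ⟨y, hy⟩ := hψ (elL (pairE n).2.2.2)
      have hp := pair_conj n
      simp only [hn1, hn2, Fin.ofNat_val_eq_self] at hp
      refine comm_of_pair ψ hk h3 (y := y) (by rw [hlift, hlift]; exact hdcomm i j) ?_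
      rw [hy, hlift, hlift]
      exact hp
    intro i j
    rcases lt_trichotomy i j with h | h | h
    exacts [hlt i j h, by rw [h], (hlt j i h).symm]
  let S : Set H := Set.range lift ∪ (ψ.ker : Set H)
  have hS : ∀ x ∈ S, ∀ y ∈ S, y * x = x * y := by
    rintro x (⟨i, rfl⟩ | hx) y (⟨j, rfl⟩ | hy)
    exacts [hlc j i, (hk y hy _).symm, hk x hx _, (hk y hy x).symm]
  have hpre : pre81 ψ ≤ Subgroup.closure S := by
    intro x hx
    have h1 : D81 ≤ (Subgroup.closure S).map ψ := by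
      refine (Subgroup.closure_le _).2 ?_
      rintro _ ⟨i, rfl⟩
      exact ⟨lift i, Subgroup.subset_closure (Or.inl ⟨i, rfl⟩), hlift i⟩
    obtain ⟨e, he, hex⟩ := h1 hx
    have : e⁻¹ * x ∈ ψ.ker := by rw [MonoidHom.mem_ker, map_mul, map_inv, hex, inv_mul_cancel]
    have := mul_mem he (Subgroup.subset_closure (show e⁻¹ * x ∈ S from Or.inr this))
    rwa [mul_inv_cancel_left] at this
  have hcl : Subgroup.closure S ≤ Subgroup.centralizer (Subgroup.closure S : Set H) := by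
    rw [Subgroup.le_centralizer_iff, Subgroup.closure_le]
    intro x hx
    refine Subgroup.mem_centralizer_iff.2 fun y hy => ?_
    induction hy using Subgroup.closure_induction with
    | mem y hy => exact hS x hx y hy
    | one => simp
    | mul a b _ _ iha ihb => rw [mul_assoc, ihb, ← mul_assoc, iha, mul_assoc]
    | inv a _ iha => exact (Commute.inv_left iha)
  have hcomm : ∀ x ∈ pre81 ψ, ∀ y ∈ pre81 ψ, x * y = y * x := fun x hx y hy =>
    Subgroup.mem_centralizer_iff.1 (hcl (hpre hy)) x (hpre hx)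
  refine ⟨hcomm, ?_, ?_, Subgroup.comap_mono D81_le, ?_⟩
  · intro x
    refine ⟨2, Subtype.ext ?_⟩
    have hD : ∀ d ∈ D81, ∀ d' ∈ D81, Commute d d' := by
      intro d hd d' hd'
      obtain ⟨u, rfl⟩ := hψ d
      obtain ⟨u', rfl⟩ := hψ d'
      exact (show Commute u u' from hcomm u hd u' hd').map ψ
    have h1 : ∀ d ∈ D81, d ^ 3 = 1 := by
      intro d hd
      induction hd using Subgroup.closure_induction with
      | mem d hd =>
        obtain ⟨i, rfl⟩ := hd
        rw [pow_three]; exact hd3 i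
      | one => exact one_pow 3
      | mul a b ha hb iha ihb => rw [(hD a ha b hb).mul_pow, iha, ihb, one_mul]
      | inv a _ iha => rw [inv_pow, iha, inv_one]
    have h9 : (x.1 ^ 3) ^ 3 = 1 := by
      have hmem : x.1 ^ 3 ∈ ψ.ker := by rw [MonoidHom.mem_ker, map_pow]; exact h1 _ x.2
      have := pow_card_eq_one' (x := (⟨x.1 ^ 3, hmem⟩ : ψ.ker))
      rw [h3] at this
      exact congrArg Subtype.val this
    rw [← pow_mul] at h9
    exact h9
  · choose up hup using fun t : Fin 81 => hψ (elL (pword t))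
    let f : ψ.ker × Fin 81 → pre81 ψ := fun p => ⟨p.1.1 * up p.2, by
      show ψ (p.1.1 * up p.2) ∈ D81
      rw [map_mul, p.1.2, one_mul, hup]
      exact pword_mem _⟩
    have hf : Function.Injective f := by
      rintro ⟨z, t⟩ ⟨z', t'⟩ h
      have h0 : z.1 * up t = z'.1 * up t' := congrArg Subtype.val h
      have h1 := congrArg ψ h0
      rw [map_mul, map_mul, z.2, z'.2, one_mul, one_mul, hup, hup] at h1
      have ht : t = t' := List.inj_on_of_nodup_map d_checks.2.2.1 (List.mem_finRange _)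
        (List.mem_finRange _) (List.map_congr_left fun p _ =>
          (wordP_apply _ p).symm.trans ((congrArg (fun l : LL => l.1 p) h1).trans (wordP_apply _ p)))
      subst ht
      exact Prod.ext (Subtype.ext (mul_right_cancel h0)) rfl
    have := Nat.card_le_card_of_injective f hf
    rwa [Nat.card_prod, h3, Nat.card_fin] at this
  · intro x hx a ha
    show ψ (x * a * x⁻¹) ∈ D81
    rw [map_mul, map_mul, map_inv]
    exact stab_conj hx ha

end Cfsg.Agent.Lib.SU6U43
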