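import Mathlib
import Cfsg.Prelude.Def_Classical
import Cfsg.Agent.S0278
import Cfsg.Agent.Lib.Semisimple.SUBasics
import Cfsg.Agent.Lib.CosetTable.HeSp44.Field

/-!
`SU(6, 2)`: the monomial subgroup, its normal abelian subgroup of order 243, and the uniqueness of
the latter among abelian subgroups of that order.
-/

set_option autoImplicit false
set_option maxRecDepth 20000

namespace Cfsg.Agent.Lib.SU6U43

open Matrix
open Cfsg.Agent.Lib
open Cfsg.Agent.Lib.CosetTable.HeSp44 (K4)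

/-- Vectors. -/
abbrev V := Fin 6 → K4
/-- The group. -/
abbrev G : Type := ↥(Cfsg.SU 6 K4 2)

theorem hq : Fintype.card K4 = 2 ^ 2 := CosetTable.HeSp44.K4.card_eq.trans (by norm_num)

theorem card_G : Nat.card G = 27590492160 := by
  show Nat.card (Cfsg.SU 6 K4 2) = 27590492160
  have h := S0278.result (F := K4) (q := 2) hq 6 (by norm_num)
  norm_num [Finset.prod_range_succ, Nat.even_iff] at h
  omega

/-- An element from a matrix. -/
def ofMat (M : Matrix (Fin 6) (Fin 6) K4) (h1 : M.det = 1)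
    (h2 : Semisimple.ct (Semisimple.qHom hq) M * M = 1) : G :=
  ⟨⟨M, h1⟩, (Semisimple.mem_SU_iff hq _).2 h2⟩

/-- The action on vectors. -/
def ap (x : G) (u : V) : V := x.1.1 *ᵥ u

theorem ap_mul (x y : G) (u : V) : ap (x * y) u = ap x (ap y u) := (mulVec_mulVec u x.1.1 y.1.1).symm

theorem ap_one (u : V) : ap 1 u = u := one_mulVec u

theorem ap_smul (x : G) (c : K4) (u : V) : ap x (c • u) = c • ap x u := mulVec_smul _ _ _

theorem ap_inj (x : G) {u u' : V} (h : ap x u = ap x u') : u = u' := by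
  have := congrArg (ap x⁻¹) h
  rwa [← ap_mul, ← ap_mul, inv_mul_cancel, ap_one, ap_one] at this

theorem ap_zero (x : G) : ap x 0 = 0 := mulVec_zero _

theorem ap_inv_self (x : G) (u : V) : ap x⁻¹ (ap x u) = u := by
  rw [← ap_mul, inv_mul_cancel, ap_one]

/-- The action as an instance to name. -/
@[reducible] def actV : MulAction G V where
  smul := ap
  one_smul := ap_one
  mul_smul := ap_mul

/-- A unit vector. -/
def e (j : Fin 6) : V := fun i => if i = j then 1 else 0

theorem e_eq (j : Fin 6) : e j = Pi.single j 1 := by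
  funext i
  simp [e, Pi.single_apply]

theorem ap_e (x : G) (j i : Fin 6) : ap x (e j) i = x.1.1 i j := by
  rw [ap, e_eq, mulVec_single_one, col_apply]

theorem ext_e {x y : G} (h : ∀ j, ap x (e j) = ap y (e j)) : x = y :=
  Subtype.ext (Subtype.ext (Matrix.ext fun i j => by rw [← ap_e x, ← ap_e y, h]))

theorem e_ne_zero (j : Fin 6) : e j ≠ 0 := by
  intro h
  simpa [e] using congrFun h j

theorem smul_e_eq {c : K4} (hc : c ≠ 0) {c' : K4} {i j : Fin 6} (h : c • e i = c' • e j) : i = j := by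
  by_contra hne
  have := congrFun h i
  simp [e, hne] at this
  exact hc this

/-- Monomial with a given permutation. -/
def Mono (σ : Equiv.Perm (Fin 6)) (x : G) : Prop := ∀ j, ∃ c : K4, ap x (e j) = c • e (σ j)

theorem mono_ne {σ : Equiv.Perm (Fin 6)} {x : G} {j : Fin 6} {c : K4}
    (h : ap x (e j) = c • e (σ j)) : c ≠ 0 := by
  rintro rfl
  rw [zero_smul, ← ap_zero x] at h
  exact e_ne_zero j (ap_inj x h)

theorem mono_one : Mono 1 (1 : G) := fun j => ⟨1, by rw [ap_one, one_smul]; rfl⟩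

theorem mono_mul {σ τ : Equiv.Perm (Fin 6)} {x y : G} (hx : Mono σ x) (hy : Mono τ y) :
    Mono (σ * τ) (x * y) := fun j => by
  obtain ⟨c, hc⟩ := hy j
  obtain ⟨d, hd⟩ := hx (τ j)
  exact ⟨c * d, by rw [ap_mul, hc, ap_smul, hd, smul_smul]; rfl⟩

theorem mono_inv {σ : Equiv.Perm (Fin 6)} {x : G} (hx : Mono σ x) : Mono σ⁻¹ x⁻¹ := fun j => by
  obtain ⟨c, hc⟩ := hx (σ⁻¹ j)
  have hc0 := mono_ne hc
  refine ⟨c⁻¹, ?_⟩
  rw [show σ (σ⁻¹ j) = j from σ.apply_symm_apply j] at hc
  have := congrArg (ap x⁻¹) hc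
  rw [ap_inv_self, ap_smul] at this
  rw [this, smul_smul, inv_mul_cancel₀ hc0, one_smul]

theorem mono_unique {σ τ : Equiv.Perm (Fin 6)} {x : G} (h : Mono σ x) (h' : Mono τ x) : σ = τ := by
  ext j
  obtain ⟨c, hc⟩ := h j
  obtain ⟨d, hd⟩ := h' j
  exact congrArg Fin.val (smul_e_eq (mono_ne hc) (hc.symm.trans hd))

/-- The monomial subgroup. -/
def N : Subgroup G where
  carrier := {x | ∃ σ, Mono σ x}
  mul_mem' := fun ⟨_, hx⟩ ⟨_, hy⟩ => ⟨_, mono_mul hx hy⟩
  one_mem' := ⟨_, mono_one⟩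
  inv_mem' := fun ⟨_, hx⟩ => ⟨_, mono_inv hx⟩

/-- The diagonal subgroup. -/
def A : Subgroup G where
  carrier := {x | Mono 1 x}
  mul_mem' := fun hx hy => by simpa using mono_mul hx hy
  one_mem' := mono_one
  inv_mem' := fun hx => by simpa using mono_inv hx

theorem A_le_N : A ≤ N := fun _ hx => ⟨1, hx⟩

/-- The permutation of a monomial element. -/
noncomputable def perm : N →* Equiv.Perm (Fin 6) where
  toFun x := x.2.choose
  map_one' := mono_unique (x := (1 : G)) (Exists.choose_spec (1 : N).2) mono_one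
  map_mul' x y := mono_unique (x := (x * y).1) (Exists.choose_spec (x * y).2)
    (mono_mul x.2.choose_spec y.2.choose_spec)

theorem perm_eq {σ : Equiv.Perm (Fin 6)} {x : G} (hx : Mono σ x) (hN : x ∈ N) :
    perm ⟨x, hN⟩ = σ :=
  mono_unique hN.choose_spec hx

/-- A permutation matrix. -/
def pmat (σ : Equiv.Perm (Fin 6)) : Matrix (Fin 6) (Fin 6) K4 :=
  Matrix.of fun i j => if i = σ j then 1 else 0

theorem pmat_det (σ : Equiv.Perm (Fin 6)) : (pmat σ).det = 1 := by
  have h : pmat σ = (1 : Matrix (Fin 6) (Fin 6) K4).submatrix σ.symm id := by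
    ext i j
    simp [pmat, Matrix.one_apply, Equiv.symm_apply_eq]
  rw [h, Matrix.det_permute, Matrix.det_one, mul_one]
  rcases Int.units_eq_one_or (Equiv.Perm.sign σ.symm) with hs | hs <;> rw [hs] <;>
    simp only [Units.val_one, Int.cast_one, Units.val_neg, Int.cast_neg]
  rfl

theorem q_one : (Semisimple.qHom hq) (1 : K4) = 1 := map_one _

theorem pmat_unitary (σ : Equiv.Perm (Fin 6)) :
    Semisimple.ct (Semisimple.qHom hq) (pmat σ) * pmat σ = 1 := by
  ext i j
  rw [Matrix.mul_apply, Finset.sum_eq_single (σ j)]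
  · simp [Semisimple.ct, pmat, Matrix.one_apply, apply_ite, eq_comm]
  · intro k _ hk
    simp [pmat, hk]
  · simp

/-- A permutation element. -/
def pm (σ : Equiv.Perm (Fin 6)) : G := ofMat (pmat σ) (pmat_det σ) (pmat_unitary σ)

theorem pm_ap (σ : Equiv.Perm (Fin 6)) (j : Fin 6) : ap (pm σ) (e j) = e (σ j) := by
  funext i
  rw [ap_e]
  rfl

theorem pm_mono (σ : Equiv.Perm (Fin 6)) : Mono σ (pm σ) :=
  fun j => ⟨1, by rw [pm_ap, one_smul]⟩

theorem pm_mul (σ τ : Equiv.Perm (Fin 6)) : pm (σ * τ) = pm σ * pm τ :=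
  ext_e fun j => by rw [ap_mul, pm_ap, pm_ap, pm_ap]; rfl

/-- The permutation elements as a homomorphism. -/
def pmHom : Equiv.Perm (Fin 6) →* G where
  toFun := pm
  map_one' := ext_e fun j => by rw [pm_ap, ap_one]; rfl
  map_mul' := pm_mul

theorem perm_pm (σ : Equiv.Perm (Fin 6)) : perm ⟨pm σ, ⟨σ, pm_mono σ⟩⟩ = σ :=
  perm_eq (pm_mono σ) _

theorem perm_surjective : Function.Surjective perm := fun σ => ⟨_, perm_pm σ⟩

/-- Diagonals of determinant one. -/
abbrev AT : Type := {d : Fin 6 → K4 // ∏ i, d i = 1}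

theorem AT_ne (d : AT) (i : Fin 6) : d.1 i ≠ 0 := fun h => by
  have := d.2
  rw [Finset.prod_eq_zero (Finset.mem_univ i) h] at this
  exact zero_ne_one this

theorem sq_mul_self : ∀ c : K4, c ≠ 0 → c ^ 2 * c = 1 := by decide +kernel

theorem dg_unitary (d : AT) :
    Semisimple.ct (Semisimple.qHom hq) (diagonal d.1) * diagonal d.1 = 1 := by
  rw [Semisimple.ct, diagonal_map (map_zero _), diagonal_transpose, diagonal_mul_diagonal,
    ← diagonal_one]
  congr 1
  funext i
  exact sq_mul_self _ (AT_ne d i)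

/-- A diagonal element. -/
def dg (d : AT) : G := ofMat (diagonal d.1) (by rw [det_diagonal]; exact d.2) (dg_unitary d)

theorem dg_ap (d : AT) (u : V) (i : Fin 6) : ap (dg d) u i = d.1 i * u i :=
  mulVec_diagonal _ _ _

theorem dg_ap_e (d : AT) (j : Fin 6) : ap (dg d) (e j) = d.1 j • e j := by
  funext i
  rw [dg_ap]
  simp only [Pi.smul_apply, smul_eq_mul, e]
  split
  · next h => rw [h]
  · simp

theorem dg_mem (d : AT) : dg d ∈ A := fun j => ⟨d.1 j, dg_ap_e d j⟩

theorem mem_A_iff {x : G} : x ∈ A ↔ ∃ d : AT, dg d = x := by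
  constructor
  · intro hx
    choose c hc using hx
    have hm : x.1.1 = diagonal c := by
      ext i j
      rw [← ap_e, hc]
      by_cases h : i = j <;> simp [e, h, diagonal]
    refine ⟨⟨c, ?_⟩, ext_e fun j => (dg_ap_e _ j).trans (hc j).symm⟩
    have := x.1.2
    rwa [hm, det_diagonal] at this
  · rintro ⟨d, rfl⟩
    exact dg_mem d

theorem dg_injective : Function.Injective dg := fun d d' h => Subtype.ext (funext fun j => by
  have := congrFun (congrArg (fun x => ap x (e j)) h) j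
  simpa [dg_ap, e] using this)

/-- The diagonal subgroup and the diagonals. -/
noncomputable def AEquiv : AT ≃ A :=
  Equiv.ofBijective (fun d => ⟨dg d, dg_mem d⟩)
    ⟨fun _ _ h => dg_injective (Subtype.ext_iff.1 h),
      fun x => by obtain ⟨d, hd⟩ := mem_A_iff.1 x.2; exact ⟨d, Subtype.ext hd⟩⟩

theorem card_AT : Fintype.card AT = 243 := by decide +kernel

theorem card_A : Nat.card A = 243 := by
  rw [← Nat.card_congr AEquiv, Nat.card_eq_fintype_card, card_AT]

theorem A_comm {x y : G} (hx : x ∈ A) (hy : y ∈ A) : x * y = y * x := by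
  obtain ⟨d, rfl⟩ := mem_A_iff.1 hx
  obtain ⟨d', rfl⟩ := mem_A_iff.1 hy
  refine ext_e fun j => funext fun i => ?_
  rw [ap_mul, ap_mul, dg_ap, dg_ap, dg_ap, dg_ap]
  ring

theorem ker_perm : perm.ker = A.subgroupOf N := by
  ext ⟨x, hx⟩
  rw [MonoidHom.mem_ker, Subgroup.mem_subgroupOf]
  exact ⟨fun h => (h ▸ hx.choose_spec : Mono 1 x), fun h => perm_eq h _⟩

theorem card_N : Nat.card N = 174960 := by
  have h := perm.ker.card_mul_index
  rw [Subgroup.index_ker, MonoidHom.range_eq_top.2 perm_surjective, Subgroup.card_top, ker_perm,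
    Nat.card_congr (Subgroup.subgroupOfEquivOfLe A_le_N).toEquiv, card_A] at h
  rw [← h, Nat.card_eq_fintype_card, Fintype.card_perm]
  rfl

theorem N_normal_A {x a : G} (hx : x ∈ N) (ha : a ∈ A) : x * a * x⁻¹ ∈ A := by
  obtain ⟨σ, hσ⟩ := hx
  have h := mono_mul (mono_mul hσ ha) (mono_inv hσ)
  rw [mul_one, mul_inv_cancel] at h
  exact h

theorem sep : ∀ j j' : Fin 6, j ≠ j' → ∃ d : AT, d.1 j ≠ d.1 j' := by
  intro j j' h
  refine ⟨⟨fun i => if i = j then K4.w else if i = j' then K4.v else 1, ?_⟩, by simp [h.symm]⟩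
  revert j j'
  decide +kernel

theorem mem_N_of_normalizes {x : G} (h : ∀ a ∈ A, x * a * x⁻¹ ∈ A) : x ∈ N := by
  have hrow : ∀ i j j', x.1.1 i j ≠ 0 → x.1.1 i j' ≠ 0 → j = j' := by
    intro i j j' hj hj'
    by_contra hne
    obtain ⟨d, hd⟩ := sep j j' hne
    obtain ⟨d', hd'⟩ := mem_A_iff.1 (h _ (dg_mem d))
    have he : dg d' * x = x * dg d := by rw [hd', inv_mul_cancel_right]
    have key : ∀ k, d'.1 i * x.1.1 i k = d.1 k * x.1.1 i k := fun k => by
      have := congrFun (congrArg (fun z => ap z (e k)) he) i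
      rwa [ap_mul, ap_mul, dg_ap, dg_ap_e, ap_smul, ap_e, Pi.smul_apply, smul_eq_mul, ap_e] at this
    exact hd ((mul_right_cancel₀ hj (key j)).symm.trans (mul_right_cancel₀ hj' (key j')))
  have hcol : ∀ j, ∃ i, x.1.1 i j ≠ 0 := fun j => by
    by_contra hne
    push Not at hne
    refine e_ne_zero j (ap_inj x (?_ : ap x (e j) = ap x 0))
    funext i
    rw [ap_e, ap_zero, hne]
    rfl
  choose f hf using hcol
  have hinj : Function.Injective f := fun a b hab => hrow (f a) a b (hf a) (hab ▸ hf b)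
  have hbij := Finite.injective_iff_bijective.1 hinj
  refine ⟨Equiv.ofBijective f hbij, fun j => ⟨x.1.1 (f j) j, ?_⟩⟩
  funext i
  rw [ap_e, Pi.smul_apply, smul_eq_mul, Equiv.ofBijective_apply]
  by_cases hi : i = f j
  · simp [e, hi]
  · obtain ⟨k, rfl⟩ := hbij.2 i
    rw [show e (f j) (f k) = 0 by simp [e, hi], mul_zero]
    by_contra hne
    exact hi (congrArg f (hrow _ k j (hf k) hne))

/-! ### Uniqueness -/

/-- Two disjoint cycles. -/
def s1 : Equiv.Perm (Fin 6) := Equiv.swap 0 1 * Equiv.swap 1 2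
/-- The other cycle. -/
def s2 : Equiv.Perm (Fin 6) := Equiv.swap 3 4 * Equiv.swap 4 5

/-- A Sylow subgroup of the symmetric group. -/
def P9 : Subgroup (Equiv.Perm (Fin 6)) := Subgroup.centralizer {s1, s2}

theorem mem_P9 {σ : Equiv.Perm (Fin 6)} : σ ∈ P9 ↔ s1 * σ = σ * s1 ∧ s2 * σ = σ * s2 := by
  simp [P9, Subgroup.mem_centralizer_iff]

theorem P9_facts :
    Fintype.card {σ : Equiv.Perm (Fin 6) // s1 * σ = σ * s1 ∧ s2 * σ = σ * s2} = 9 ∧
    (∀ σ : Equiv.Perm (Fin 6), s1 * σ = σ * s1 → s2 * σ = σ * s2 → σ ≠ 1 →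
      ((Finset.univ : Finset AT).filter fun d => ∀ i, d.1 (σ i) = d.1 i).card ≤ 27) ∧
    ((Finset.univ : Finset AT).filter fun d =>
      (∀ i, d.1 (s1 i) = d.1 i) ∧ ∀ i, d.1 (s2 i) = d.1 i).card ≤ 9 := by
  decide +kernel

theorem card_P9 : Nat.card P9 = 9 := by
  rw [Nat.card_congr (Equiv.subtypeEquivRight fun σ => mem_P9), Nat.card_eq_fintype_card,
    P9_facts.1]

/-- A Sylow 3-subgroup. -/
noncomputable def P : Subgroup G := (P9.comap perm).map N.subtype

theorem card_P : Nat.card P = 2187 := by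
  rw [P, Subgroup.card_map_of_injective N.subtype_injective]
  have h := (P9.comap perm).card_mul_index
  rw [Subgroup.index_comap_of_surjective _ perm_surjective, card_N] at h
  have h2 := P9.card_mul_index
  rw [card_P9, Nat.card_eq_fintype_card, Fintype.card_perm] at h2
  have h3 : P9.index = 80 := by
    have : (Fintype.card (Fin 6)).factorial = 720 := by decide
    omega
  rw [h3] at h
  omega

theorem fixed_of_comm {σ : Equiv.Perm (Fin 6)} {x : G} (hx : Mono σ x) (d : AT)
    (h : x * dg d = dg d * x) (i : Fin 6) : d.1 (σ i) = d.1 i := by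
  obtain ⟨c, hc⟩ := hx i
  have := congrArg (fun z => ap z (e i)) h
  simp only [ap_mul, dg_ap_e, ap_smul, hc, smul_smul] at this
  have := congrFun this (σ i)
  simp only [Pi.smul_apply, smul_eq_mul, e, if_true, mul_one] at this
  rw [mul_comm (d.1 i) c] at this
  exact (mul_left_cancel₀ (mono_ne hc) this).symm

theorem eq_A_of_le_P {E : Subgroup G} (hle : E ≤ P) (hc : ∀ x ∈ E, ∀ y ∈ E, x * y = y * x)
    (hcard : 243 ≤ Nat.card E) : E = A := by
  have hEN : E ≤ N := hle.trans (Subgroup.map_subtype_le _)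
  let f : E →* Equiv.Perm (Fin 6) := perm.comp (Subgroup.inclusion hEN)
  have hf : ∀ x : E, Mono (f x) x.1 := fun x => (hEN x.2).choose_spec
  have hr : f.range ≤ P9 := by
    rintro _ ⟨x, rfl⟩
    obtain ⟨y, hy, hyx⟩ := hle x.2
    have : y = Subgroup.inclusion hEN x := Subtype.ext hyx
    rw [this] at hy
    exact hy
  have hkA : ∀ x : f.ker, x.1.1 ∈ A := fun x => by
    have := hf x.1
    rwa [x.2] at this
  let F : f.ker → AT := fun x => AEquiv.symm ⟨x.1.1, hkA x⟩
  have hF : ∀ x, dg (F x) = x.1.1 := fun x => congrArg Subtype.val (AEquiv.apply_symm_apply ⟨x.1.1, hkA x⟩)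
  have hFi : Function.Injective F := fun x y h =>
    Subtype.ext (Subtype.ext (by rw [← hF x, ← hF y, h]))
  have hfix : ∀ y : E, ∀ x : f.ker, ∀ i, (F x).1 (f y i) = (F x).1 i := fun y x =>
    fixed_of_comm (hf y) _ (by rw [hF]; exact hc _ y.2 _ x.1.2)
  have hbound : ∀ S : Finset AT, (∀ x, F x ∈ S) → Nat.card f.ker ≤ S.card := fun S hS =>
    (Nat.card_le_card_of_injective (fun x => (⟨F x, hS x⟩ : S))
      fun x y h => hFi (congrArg Subtype.val h)).trans (by rw [Nat.card_eq_fintype_card, Fintype.card_coe])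
  have hprod : Nat.card f.ker * Nat.card f.range = Nat.card E := by
    rw [← Subgroup.index_ker, Subgroup.card_mul_index]
  have hr9 : Nat.card f.range ≤ 9 := card_P9 ▸ Subgroup.card_le_of_le hr
  have htriv : f.range = ⊥ := by
    rw [Subgroup.eq_bot_iff_forall]
    rintro σ ⟨y, hy⟩
    by_contra hne
    have hσ := mem_P9.1 (hr ⟨y, hy⟩)
    have h27 := (hbound _ (fun x => by
      simp only [Finset.mem_filter, Finset.mem_univ, true_and]
      exact fun i => hy ▸ hfix y x i)).trans (P9_facts.2.1 σ hσ.1 hσ.2 hne)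
    by_cases h9 : Nat.card f.range = 9
    · have heq : f.range = P9 := Subgroup.eq_of_le_of_card_ge hr (by rw [h9, card_P9])
      obtain ⟨y1, hy1⟩ : s1 ∈ f.range := heq ▸ mem_P9.2 (by decide)
      obtain ⟨y2, hy2⟩ : s2 ∈ f.range := heq ▸ mem_P9.2 (by decide)
      have h := (hbound _ (fun x => by
        simp only [Finset.mem_filter, Finset.mem_univ, true_and]
        exact ⟨fun i => hy1 ▸ hfix y1 x i, fun i => hy2 ▸ hfix y2 x i⟩)).trans P9_facts.2.2
      rw [h9] at hprod
      omega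
    · have : Nat.card f.ker * Nat.card f.range ≤ 27 * 8 := Nat.mul_le_mul h27 (by omega)
      omega
  have hEA : E ≤ A := fun x hx => by
    have h1 : f ⟨x, hx⟩ = 1 := Subgroup.mem_bot.1 (htriv ▸ ⟨⟨x, hx⟩, rfl⟩)
    exact hkA ⟨⟨x, hx⟩, h1⟩
  exact Subgroup.eq_of_le_of_card_ge hEA (card_A ▸ hcard)

/-- A conjugate of a 3-subgroup lies in `P`. -/
theorem exists_conj_le_P {Q : Subgroup G} (hQ : IsPGroup 3 Q) :
    ∃ g : G, Q.map (MulAut.conj g).toMonoidHom ≤ P := by
  haveI : Fact (Nat.Prime 3) := ⟨Nat.prime_three⟩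
  haveI : Finite G := Nat.finite_of_card_ne_zero (by rw [card_G]; norm_num)
  let S : Sylow 3 G := Sylow.ofCard P (by
    rw [card_P, card_G, show (27590492160 : ℕ) = 3 ^ 7 * 12615680 by norm_num,
      Nat.factorization_mul (by norm_num) (by norm_num), Finsupp.add_apply,
      Nat.Prime.factorization_pow Nat.prime_three, Finsupp.single_eq_same,
      Nat.factorization_eq_zero_of_not_dvd (by norm_num : ¬ 3 ∣ 12615680)]
    norm_num)
  obtain ⟨T, hT⟩ := hQ.exists_le_sylow
  obtain ⟨g, hg⟩ := MulAction.exists_smul_eq G T S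
  refine ⟨g, le_trans (Subgroup.map_mono hT) (le_of_eq ?_)⟩
  have := congrArg Sylow.toSubgroup hg
  rw [Sylow.coe_subgroup_smul, Subgroup.pointwise_smul_def] at this
  exact this

theorem comm_map {E : Subgroup G} (hc : ∀ x ∈ E, ∀ y ∈ E, x * y = y * x) (g : G) :
    ∀ x ∈ E.map (MulAut.conj g).toMonoidHom, ∀ y ∈ E.map (MulAut.conj g).toMonoidHom,
      x * y = y * x := by
  rintro _ ⟨x, hx, rfl⟩ _ ⟨y, hy, rfl⟩
  rw [← map_mul, ← map_mul, hc x hx y hy]

theorem exists_conj_A {E : Subgroup G} (hE : IsPGroup 3 E)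
    (hc : ∀ x ∈ E, ∀ y ∈ E, x * y = y * x) (hcard : 243 ≤ Nat.card E) :
    ∃ g : G, E.map (MulAut.conj g).toMonoidHom = A := by
  obtain ⟨g, hg⟩ := exists_conj_le_P hE
  exact ⟨g, eq_A_of_le_P hg (comm_map hc g)
    (by rwa [Subgroup.card_map_of_injective (MulAut.conj g).injective])⟩

theorem abelian_unique {Q E E' : Subgroup G} (hQ : IsPGroup 3 Q) (hE : E ≤ Q) (hE' : E' ≤ Q)
    (hc : ∀ x ∈ E, ∀ y ∈ E, x * y = y * x) (hc' : ∀ x ∈ E', ∀ y ∈ E', x * y = y * x)
    (hn : 243 ≤ Nat.card E) (hn' : 243 ≤ Nat.card E') : E = E' := by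
  obtain ⟨g, hg⟩ := exists_conj_le_P hQ
  refine Subgroup.map_injective (f := (MulAut.conj g).toMonoidHom) (MulAut.conj g).injective ?_
  rw [eq_A_of_le_P ((Subgroup.map_mono hE).trans hg) (comm_map hc g)
      (by rwa [Subgroup.card_map_of_injective (MulAut.conj g).injective]),
    eq_A_of_le_P ((Subgroup.map_mono hE').trans hg) (comm_map hc' g)
      (by rwa [Subgroup.card_map_of_injective (MulAut.conj g).injective])]

end Cfsg.Agent.Lib.SU6U43
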