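import Cfsg.Agent.Lib.SU6U43.Gens

/-!
The finite checks that pin down the second frame.
-/

set_option autoImplicit false
set_option maxRecDepth 20000

namespace Cfsg.Agent.Lib.SU6U43

open Cfsg.Agent.Lib.CosetTable.HeSp44 (K4)

/-- The vector of weight three. -/
def v3 : V := vec 21

/-- The frame elements. -/
def fr : Fin 4 → G := ![elA0, elA1, delta elA1, delta (delta elA1)]

/-- Running a word on a code. -/
def runC (z : G) : List ℕ → ℕ → ℕ
  | [], n => n
  | k :: w, n => code (ap (gens4 z (Fin.ofNat 4 k)) (vec (runC z w n)))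

theorem runC_eq (z : G) : ∀ (w : List ℕ) (u : V), vec (runC z w (code u)) = ap (wprod (gens4 z) w) u
  | [], u => by rw [runC, vec_code, wprod, ap_one]
  | k :: w, u => by rw [runC, vec_code, runC_eq z w, wprod, ap_mul]

theorem short_orbit : ∀ u : V, unitV u → Cfsg.hermForm 6 K4 2 u v3 = 0 →
    ((Data.testWords.map fun w => pc (fapp w u)).toFinset).card ≤ 5 → pc u ∈ Data.cand := by
  decide +kernel

theorem test_fix : ∀ w ∈ Data.testWords, pc (fapp w v3) = 21 := by decide +kernel

theorem cliques : ∀ s ∈ Data.cand.toFinset.powersetCard 5,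
    (∀ x ∈ s, ∀ y ∈ s, x ≠ y → Cfsg.hermForm 6 K4 2 (vec x) (vec y) = 0) →
      ∃ k : Fin 4, s = (Data.candFrames.getD k.val []).toFinset := by
  decide +kernel

theorem fr_cols : ∀ k : Fin 4, (∀ i, ap (fr k) (e 0) i = v3 i) ∧
    ∀ c ∈ Data.candFrames.getD k.val [], ∃ j, pc (ap (fr k) (e j)) = c := by
  decide +kernel

/-- The parity of the first bad word. -/
def sigA1 : Equiv.Perm (Fin 6) := Equiv.swap 0 1 * Equiv.swap 1 4 * Equiv.swap 3 5

theorem bad_words :
    (∀ j, pc (vec (runC elA1 Data.badA1 (code (e j)))) = code (e (sigA1 j))) ∧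
    (∀ j, pc (vec (runC elA0 Data.badA0 (code (e j)))) = code (e (Equiv.swap 1 2 j))) ∧
    (∀ j, pc (vec (runC (elA0 * n0) Data.badA0n (code (e j)))) = code (e (Equiv.swap 0 1 j))) := by
  decide +kernel

theorem e_code : ∀ j : Fin 6, pc (e j) = code (e j) := by decide +kernel

end Cfsg.Agent.Lib.SU6U43
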