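import Cfsg.Agent.Lib.SU6U43.Orbits
import Cfsg.Agent.Lib.SU6U43.CandChecks

/-!
A subgroup of order 9797760 over the even monomial group contains one of three elements.
-/

set_option autoImplicit false
set_option maxRecDepth 20000

namespace Cfsg.Agent.Lib.SU6U43

open Cfsg.Agent.Lib.CosetTable.HeSp44 (K4)

/-- A subgroup with the even monomial group as a maximal subgroup of index 112. -/
structure Std (K : Subgroup G) : Prop where
  card_K : Nat.card K = 9797760
  le : M ≤ K
  maximal : ∀ Y : Subgroup G, M ≤ Y → Y ≤ K → Y = M ∨ Y = K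

instance : Finite G := Nat.finite_of_card_ne_zero (by rw [card_G]; norm_num)

theorem Std.inf_N {K : Subgroup G} (h : Std K) : K ⊓ N = M := by
  rcases h.maximal _ (le_inf h.le M_le_N) inf_le_left with e | e
  · exact e
  · have : Nat.card (K ⊓ N : Subgroup G) ≤ Nat.card N := Subgroup.card_le_of_le inf_le_right
    rw [e, h.card_K, card_N] at this
    omega

theorem Std.odd {K : Subgroup G} (h : Std K) {σ : Equiv.Perm (Fin 6)} {x : G} (hx : x ∈ K)
    (hm : Mono σ x) : Equiv.Perm.sign σ = 1 := by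
  have : x ∈ M := h.inf_N ▸ ⟨hx, ⟨σ, hm⟩⟩
  obtain ⟨τ, hτ, hm'⟩ := mem_M.1 this
  rwa [mono_unique hm hm']

theorem Std.map {K : Subgroup G} (h : Std K) (φ : G ≃* G) (hφ : M.map φ.toMonoidHom = M) :
    Std (K.map φ.toMonoidHom) where
  card_K := (Subgroup.card_map_of_injective φ.injective).trans h.card_K
  le := hφ ▸ Subgroup.map_mono h.le
  maximal Y h1 h2 := by
    have hi : Function.Injective (φ.toMonoidHom) := φ.injective
    have hY : Y = (Y.comap φ.toMonoidHom).map φ.toMonoidHom :=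
      (Subgroup.map_comap_eq_self_of_surjective φ.surjective Y).symm
    rcases h.maximal (Y.comap φ.toMonoidHom)
        (Subgroup.map_le_iff_le_comap.1 (hφ.le.trans h1))
        ((Subgroup.comap_mono h2).trans (Subgroup.comap_map_eq_self_of_injective hi K).le) with e | e
    · exact Or.inl (by rw [hY, e, hφ])
    · exact Or.inr (by rw [hY, e])

/-- Recognising the even monomial group. -/
theorem eq_M {X : Subgroup G} (hc : Nat.card X = 87480) (hA : A ≤ X)
    (hn : ∀ x ∈ X, ∀ a ∈ A, x * a * x⁻¹ ∈ A) : X = M := by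
  have hXN : X ≤ N := fun x hx => mem_N_of_normalizes (hn x hx)
  have hidx : (X.subgroupOf N).index = 2 := by
    have h := (X.subgroupOf N).card_mul_index
    rw [Nat.card_congr (Subgroup.subgroupOfEquivOfLe hXN).toEquiv, hc, card_N] at h
    omega
  have h3 : ∀ σ : Equiv.Perm (Fin 6), σ ^ 3 = 1 → pm σ ∈ X := by
    intro σ hσ
    let y : N := ⟨pm σ, ⟨σ, pm_mono σ⟩⟩
    have hy3 : y * y * y = 1 := by
      refine Subtype.ext ?_
      show pm σ * pm σ * pm σ = 1
      rw [← pm_mul, ← pm_mul, show σ * σ * σ = 1 by rw [← hσ, pow_three, mul_assoc]]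
      exact pmHom.map_one
    have h2 := Subgroup.mul_self_mem_of_index_two hidx y
    have h4 := mul_mem h2 h2
    rw [show y * y * (y * y) = y by rw [← mul_assoc (y * y) y y, hy3, one_mul]] at h4
    exact h4
  have halt : alternatingGroup (Fin 6) ≤ X.comap pmHom := by
    rw [← Equiv.Perm.closure_three_cycles_eq_alternating, Subgroup.closure_le]
    intro σ hσ
    refine h3 σ ?_
    rw [← Equiv.Perm.IsThreeCycle.orderOf hσ]
    exact pow_orderOf_eq_one σ
  have hle : M ≤ X := fun x hx => by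
    obtain ⟨σ, hs, hm⟩ := mem_M.1 hx
    have ha : (pm σ)⁻¹ * x ∈ A := by
      have h := mono_mul (mono_inv (pm_mono σ)) hm
      rwa [inv_mul_cancel] at h
    have := mul_mem (show pm σ ∈ X from halt (Equiv.Perm.mem_alternatingGroup.2 hs)) (hA ha)
    rwa [mul_inv_cancel_left] at this
  exact (Subgroup.eq_of_le_of_card_ge hle (by rw [hc, card_M])).symm

theorem unit_e0 : unitV (e 0) := by
  rw [← ap_one (e 0)]
  exact unit_ap_e 1 0

/-- The orbit is everything. -/
theorem Std.v3_mem {K : Subgroup G} (h : Std K) :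
    v3 ∈ orbF K ∧ (K ⊓ St : Subgroup G) = M ⊓ St := by
  classical
  have hle : M ⊓ St ≤ K ⊓ St := inf_le_inf_right _ h.le
  have hc := card_orbF K
  rw [h.card_K] at hc
  obtain ⟨s, hs⟩ := Subgroup.card_dvd_of_le hle
  rw [card_M_inf_St] at hs
  have hclosed : ∀ u ∈ orbF K, ∀ u', unitV u' → wt u' = wt u → u' ∈ orbF K := by
    intro u hu u' hu' hw
    obtain ⟨x, hx, rfl⟩ := mem_orbF.1 hu
    obtain ⟨m, hm, hmu⟩ := M_transitive (unit_ap_e x 0) hu' hw.symm
    exact mem_orbF.2 ⟨m * x, mul_mem (h.le hm) hx, by rw [ap_mul, hmu]⟩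
  have h1 : e 0 ∈ orbF K := mem_orbF.2 ⟨1, one_mem _, ap_one _⟩
  have w1 : ∀ u, unitV u → wt u = 1 → u ∈ orbF K := fun u hu hw =>
    hclosed _ h1 u hu (by rw [hw, wt_facts.2.2.2.2.1])
  have hv : unitV v3 ∧ wt v3 = 3 := by decide +kernel
  have hvO : v3 ∈ orbF K := by
    by_contra hv'
    have h3 : ∀ u ∈ orbF K, wt u ≠ 3 := fun u hu hw => hv' (hclosed u hu _ hv.1 (by rw [hv.2, hw]))
    by_cases h5 : ∃ u ∈ orbF K, wt u = 5
    · obtain ⟨u0, hu0, hw0⟩ := h5
      have heq : orbF K = Finset.univ.filter fun u : V => unitV u ∧ (wt u = 1 ∨ wt u = 5) := by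
        ext u
        simp only [Finset.mem_filter, Finset.mem_univ, true_and]
        constructor
        · intro hu
          refine ⟨orbF_unit hu, ?_⟩
          rcases (tree_cover.2.2 u (orbF_unit hu)).2 with e | e | e
          exacts [Or.inl e, absurd e (h3 u hu), Or.inr e]
        · rintro ⟨hu, e | e⟩
          exacts [w1 u hu e, hclosed u0 hu0 u hu (by rw [e, hw0])]
      rw [heq, wt_facts.2.2.1, hs] at hc
      omega
    · have hKN : K ≤ N := by
        intro x hx
        refine mono_of_cols fun j => ?_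
        have hej : e j ∈ orbF K :=
          w1 _ (by rw [← ap_one (e j)]; exact unit_ap_e 1 j) (wt_facts.2.2.2.2.1 j)
        obtain ⟨y, hy, hyj⟩ := mem_orbF.1 hej
        have hu : ap x (e j) ∈ orbF K := mem_orbF.2 ⟨x * y, mul_mem hx hy, by rw [ap_mul, hyj]⟩
        have hw : wt (ap x (e j)) = 1 := by
          rcases (tree_cover.2.2 _ (orbF_unit hu)).2 with e | e | e
          exacts [e, absurd e (h3 _ hu), absurd ⟨_, hu, e⟩ h5]
        obtain ⟨i, c, hic⟩ := wt_facts.2.2.2.2.2 _ hw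
        exact ⟨i, c, hic⟩
      have := Subgroup.card_le_of_le hKN
      rw [h.card_K, card_N] at this
      omega
  refine ⟨hvO, ?_⟩
  by_cases h5 : ∃ u ∈ orbF K, wt u = 5
  · obtain ⟨u0, hu0, hw0⟩ := h5
    have heq : orbF K = Finset.univ.filter fun u : V => unitV u := by
      ext u
      simp only [Finset.mem_filter, Finset.mem_univ, true_and]
      refine ⟨orbF_unit, fun hu => ?_⟩
      rcases (tree_cover.2.2 u hu).2 with e | e | e
      exacts [w1 u hu e, hclosed v3 hvO u hu (by rw [e, hv.2]), hclosed u0 hu0 u hu (by rw [e, hw0])]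
    rw [heq, wt_facts.2.2.2.1] at hc
    refine (Subgroup.eq_of_le_of_card_ge hle ?_).symm
    rw [card_M_inf_St]
    omega
  · have heq : orbF K = Finset.univ.filter fun u : V => unitV u ∧ (wt u = 1 ∨ wt u = 3) := by
      ext u
      simp only [Finset.mem_filter, Finset.mem_univ, true_and]
      constructor
      · intro hu
        refine ⟨orbF_unit hu, ?_⟩
        rcases (tree_cover.2.2 u (orbF_unit hu)).2 with e | e | e
        exacts [Or.inl e, Or.inr e, absurd ⟨u, hu, e⟩ h5]
      · rintro ⟨hu, e | e⟩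
        exacts [w1 u hu e, hclosed v3 hvO u hu (by rw [e, hv.2])]
    rw [heq, wt_facts.2.1, hs] at hc
    omega

theorem scalar_mem {c : K4} (hc : c ≠ 0) : ∃ z ∈ M, ∀ u : V, ap z u = c • u := by
  have h6 : ∀ c : K4, c ≠ 0 → ∏ _i : Fin 6, c = 1 := by decide +kernel
  refine ⟨dg ⟨fun _ => c, h6 c hc⟩, A_le_M (dg_mem _), fun u => funext fun i => ?_⟩
  rw [dg_ap]
  rfl

theorem Std.line_stab {K : Subgroup G} (h : Std K) {x : G} (hx : x ∈ K) {c : K4}
    (hxe : ap x (e 0) = c • e 0) : x ∈ M := by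
  have hc : c ≠ 0 := fun h0 => ap_e_ne x 0 (by rw [hxe, h0, zero_smul])
  obtain ⟨z, hz, hzu⟩ := scalar_mem (inv_ne_zero hc)
  have hs : z * x ∈ K ⊓ St :=
    ⟨mul_mem (h.le hz) hx, show ap (z * x) (e 0) = e 0 by
      rw [ap_mul, hxe, ap_smul, hzu, smul_smul, mul_inv_cancel₀ hc, one_smul]⟩
  rw [h.v3_mem.2] at hs
  have := mul_mem (inv_mem hz) hs.1
  rwa [inv_mul_cancel_left] at this

/-- Some element carries the first frame to one of four. -/
theorem Std.frame {K : Subgroup G} (h : Std K) :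
    ∃ k : Fin 4, fr k ∈ K ∨ fr k * n0 ∈ K := by
  classical
  obtain ⟨g, hg, hg0⟩ := mem_orbF.1 h.v3_mem.1
  have hv : v3 ≠ 0 := by decide +kernel
  let q : Fin 6 → ℕ := fun j => pc (ap g (e j))
  have hq : Function.Injective q := fun i j hij => pc_ap_inj g hij
  let T : Finset ℕ := (Finset.univ.erase 0).image q
  have hT : T.card = 5 := by
    rw [Finset.card_image_of_injective _ hq, Finset.card_erase_of_mem (Finset.mem_univ _),
      Finset.card_univ, Fintype.card_fin]
  have hmem : ∀ j, j ≠ 0 → q j ∈ Data.cand := by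
    intro j hj
    refine short_orbit _ (unit_ap_e g j) (by rw [← hg0]; exact orth_ap_e g hj) ?_
    refine le_trans (Finset.card_le_card ?_) hT.le
    intro n hn
    rw [List.mem_toFinset, List.mem_map] at hn
    obtain ⟨w, hw, rfl⟩ := hn
    let m := wprod (gens4 1) w
    have hm : m ∈ M := wprod_mem (gens4_mem le_rfl (one_mem _)) w
    have hmv := test_fix w hw
    rw [← fapp_eq] at hmv
    have hv21 : pc v3 = 21 := by decide +kernel
    obtain ⟨c, hc, hcv⟩ := eq_smul_of_pc (fun h0 => hv (ap_inj m (h0.trans (ap_zero m).symm))) hv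
      (hmv.trans hv21.symm)
    have hnM : g⁻¹ * m * g ∈ M := h.line_stab (mul_mem (mul_mem (inv_mem hg) (h.le hm)) hg)
      (c := c) (by rw [ap_mul, hg0, ap_mul, hcv, ap_smul, ← hg0, ap_inv_self])
    obtain ⟨τ, -, hτ⟩ := mem_M.1 hnM
    obtain ⟨d, hd⟩ := hτ j
    have hd0 := mono_ne hd
    have hτ0 : τ 0 = 0 := by
      obtain ⟨d', hd'⟩ := hτ 0
      rw [ap_mul, hg0, ap_mul, hcv, ap_smul, ← hg0, ap_inv_self] at hd'
      exact (smul_e_eq hc hd').symm
    have hτj : τ j ≠ 0 := fun h0 => hj (τ.injective (h0.trans hτ0.symm))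
    refine Finset.mem_image.2 ⟨τ j, Finset.mem_erase.2 ⟨hτj, Finset.mem_univ _⟩, ?_⟩
    rw [← fapp_eq]
    have hmg : ap m (ap g (e j)) = d • ap g (e (τ j)) := by
      rw [← ap_smul, ← hd, ← ap_mul, ← ap_mul,
        show g * (g⁻¹ * m * g) = m * g by group]
    show pc (ap g (e (τ j))) = pc (ap m (ap g (e j)))
    rw [hmg, pc_smul hd0 (ap_e_ne _ _)]
  obtain ⟨k, hk⟩ := cliques T (Finset.mem_powersetCard.2 ⟨fun n hn => by
      obtain ⟨j, hj, rfl⟩ := Finset.mem_image.1 hn
      exact List.mem_toFinset.2 (hmem j (Finset.mem_erase.1 hj).1), hT⟩) (by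
    intro x hx y hy hxy
    obtain ⟨i, -, rfl⟩ := Finset.mem_image.1 hx
    obtain ⟨j, -, rfl⟩ := Finset.mem_image.1 hy
    obtain ⟨c, -, hc⟩ := pc_spec (ap_e_ne g i)
    obtain ⟨d, -, hd⟩ := pc_spec (ap_e_ne g j)
    rw [hc, hd, herm_smul, orth_ap_e g fun hij => hxy (by rw [hij]), mul_zero])
  refine ⟨k, ?_⟩
  have hfe : ap (fr k) (e 0) = v3 := funext (fr_cols k).1
  obtain ⟨σ, hσ⟩ : ∃ σ, Mono σ ((fr k)⁻¹ * g) := by
    refine mono_of_cols fun j => ?_
    by_cases hj : j = 0
    · subst hj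
      refine ⟨0, 1, ?_⟩
      rw [ap_mul, hg0, ← hfe, ap_inv_self, one_smul]
    · have hqT : q j ∈ T := Finset.mem_image_of_mem q (Finset.mem_erase.2 ⟨hj, Finset.mem_univ _⟩)
      rw [hk, List.mem_toFinset] at hqT
      obtain ⟨i, hi⟩ := (fr_cols k).2 _ hqT
      obtain ⟨c, -, hc⟩ := eq_smul_of_pc (ap_e_ne g j) (ap_e_ne (fr k) i) hi.symm
      exact ⟨i, c, by rw [ap_mul, hc, ap_smul, ap_inv_self]⟩
  rcases mem_N_cases (show (fr k)⁻¹ * g ∈ N from ⟨σ, hσ⟩) with hy | hy
  · refine Or.inl ?_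
    have := mul_mem hg (inv_mem (h.le hy))
    rwa [mul_inv_rev, inv_inv, mul_inv_cancel_left] at this
  · refine Or.inr ?_
    have hy' := mul_mem hg (inv_mem (h.le hy))
    rwa [mul_inv_rev, mul_inv_rev, inv_inv, inv_eq_of_mul_eq_one_right n0_mul_self, ← mul_assoc,
      mul_inv_cancel_left] at hy'

theorem bad_word {K : Subgroup G} (h : Std K) {z : G} (w : List ℕ) (σ : Equiv.Perm (Fin 6))
    (hs : Equiv.Perm.sign σ = -1)
    (hw : ∀ j, pc (vec (runC z w (code (e j)))) = code (e (σ j))) : z ∉ K := by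
  intro hz
  have hm : Mono σ (wprod (gens4 z) w) := fun j => by
    have h1 := hw j
    rw [runC_eq, ← e_code] at h1
    obtain ⟨c, -, hc⟩ := eq_smul_of_pc (ap_e_ne _ _) (e_ne_zero _) h1
    exact ⟨c, hc⟩
  have := h.odd (wprod_mem (gens4_mem h.le hz) w) hm
  rw [hs] at this
  exact absurd this (by decide)

/-- The good frame element. -/
def g1 : G := elA1 * n0

theorem Std.map_delta {K : Subgroup G} (h : Std K) : Std (K.map delta.symm.toMonoidHom) :=
  h.map delta.symm (by
    conv_lhs => rw [← map_delta_M, Subgroup.map_map]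
    convert Subgroup.map_id M
    ext x
    simp)

/-- A subgroup contains one of three elements. -/
theorem Std.good {K : Subgroup G} (h : Std K) :
    g1 ∈ K ∨ delta g1 ∈ K ∨ delta (delta g1) ∈ K := by
  have b1 : ∀ {K : Subgroup G}, Std K → elA1 ∉ K := fun h =>
    bad_word h Data.badA1 sigA1 (by decide +kernel) bad_words.1
  have pull : ∀ {K : Subgroup G} {x : G}, delta x ∈ K → x ∈ K.map delta.symm.toMonoidHom :=
    fun {_ x} hx => ⟨delta x, hx, delta.symm_apply_apply x⟩
  have hg : ∀ x : G, delta x * n0 = delta (x * n0) := fun x => by rw [map_mul, delta_n0]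
  obtain ⟨k, hk⟩ := h.frame
  fin_cases k
  · rcases hk with hk | hk
    · exact absurd hk (bad_word h Data.badA0 _ (Equiv.Perm.sign_swap (by decide)) bad_words.2.1)
    · exact absurd hk (bad_word h Data.badA0n _ (Equiv.Perm.sign_swap (by decide)) bad_words.2.2)
  · rcases hk with hk | hk
    · exact absurd hk (b1 h)
    · exact Or.inl hk
  · rcases hk with hk | hk
    · exact absurd (pull hk) (b1 h.map_delta)
    · refine Or.inr (Or.inl ?_)
      have hk' : delta elA1 * n0 ∈ K := hk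
      rwa [hg] at hk'
  · rcases hk with hk | hk
    · exact absurd (pull (pull hk)) (b1 h.map_delta.map_delta)
    · refine Or.inr (Or.inr ?_)
      have hk' : delta (delta elA1) * n0 ∈ K := hk
      rwa [hg, hg] at hk'

end Cfsg.Agent.Lib.SU6U43
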