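import Cfsg.Agent.Lib.SU6U43.Basic
import Cfsg.Agent.Lib.SU6U43.Data

/-!
`SU(6, 2)`: point codes, the even monomial group and named elements.
-/

set_option autoImplicit false
set_option maxRecDepth 20000

namespace Cfsg.Agent.Lib.SU6U43

open Matrix
open Cfsg.Agent.Lib.CosetTable.HeSp44 (K4)
open scoped Pointwise

/-- The number of a scalar. -/
def toC : K4 → ℕ
  | .o => 0 | .e => 1 | .w => 2 | .v => 3

/-- The code of a vector. -/
def code (u : V) : ℕ :=
  toC (u 0) + 4 * (toC (u 1) + 4 * (toC (u 2) + 4 * (toC (u 3) + 4 * (toC (u 4) + 4 * toC (u 5)))))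

/-- The vector of a code. -/
def vec (n : ℕ) : V := fun i => K4.ofCode (n / 4 ^ i.val % 4)

/-- The first nonzero coordinate. -/
def lead (u : V) : K4 :=
  if u 0 ≠ 0 then u 0 else if u 1 ≠ 0 then u 1 else if u 2 ≠ 0 then u 2
  else if u 3 ≠ 0 then u 3 else if u 4 ≠ 0 then u 4 else u 5

/-- The code of the line of a vector. -/
def pc (u : V) : ℕ := code fun i => (lead u)⁻¹ * u i

theorem vec_code : ∀ u : V, vec (code u) = u := by decide +kernel

theorem code_facts :
    (∀ u : V, u ≠ 0 → lead u ≠ 0) ∧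
    (∀ u : V, ∀ c : K4, c ≠ 0 → u ≠ 0 → pc (fun i => c * u i) = pc u) := by
  decide +kernel

theorem pc_smul {u : V} {c : K4} (hc : c ≠ 0) (hu : u ≠ 0) : pc (c • u) = pc u :=
  code_facts.2 u c hc hu

theorem pc_spec {u : V} (hu : u ≠ 0) : ∃ c : K4, c ≠ 0 ∧ vec (pc u) = c • u :=
  ⟨(lead u)⁻¹, inv_ne_zero (code_facts.1 u hu), vec_code _⟩

theorem eq_smul_of_pc {u u' : V} (hu : u ≠ 0) (hu' : u' ≠ 0) (h : pc u = pc u') :
    ∃ c : K4, c ≠ 0 ∧ u = c • u' := by
  obtain ⟨c, hc, e1⟩ := pc_spec hu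
  obtain ⟨d, hd, e2⟩ := pc_spec hu'
  rw [h, e2] at e1
  exact ⟨c⁻¹ * d, mul_ne_zero (inv_ne_zero hc) hd, by rw [mul_smul, e1, inv_smul_smul₀ hc]⟩

theorem ap_e_ne (x : G) (j : Fin 6) : ap x (e j) ≠ 0 := fun h =>
  e_ne_zero j (ap_inj x (h.trans (ap_zero x).symm))

theorem pc_ap_inj (x : G) {i j : Fin 6} (h : pc (ap x (e i)) = pc (ap x (e j))) : i = j := by
  obtain ⟨c, hc, e1⟩ := eq_smul_of_pc (ap_e_ne x i) (ap_e_ne x j) h
  rw [← ap_smul] at e1
  exact smul_e_eq one_ne_zero (c' := c) (by rw [one_smul]; exact ap_inj x e1)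

theorem mono_of_cols {x : G} (h : ∀ j, ∃ i, ∃ c : K4, ap x (e j) = c • e i) :
    ∃ σ, Mono σ x := by
  choose f c hf using h
  have hc : ∀ j, c j ≠ 0 := fun j h0 => ap_e_ne x j (by rw [hf, h0, zero_smul])
  have hinj : Function.Injective f := fun a b hab => by
    refine pc_ap_inj x ?_
    rw [hf, hf, hab, pc_smul (hc a) (e_ne_zero _), pc_smul (hc b) (e_ne_zero _)]
  exact ⟨Equiv.ofBijective f (Finite.injective_iff_bijective.1 hinj), fun j => ⟨c j, hf j⟩⟩

/-- Weight. -/
def wt (u : V) : ℕ := (Finset.univ.filter fun i => u i ≠ 0).card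

/-- Unit vectors. -/
def unitV (u : V) : Prop := Cfsg.hermForm 6 K4 2 u u = 1

instance : DecidablePred unitV := fun u => inferInstanceAs (Decidable (_ = _))

theorem herm_ap (x : G) (u u' : V) :
    Cfsg.hermForm 6 K4 2 (ap x u) (ap x u') = Cfsg.hermForm 6 K4 2 u u' := x.2 u u'

theorem herm_e : ∀ i j : Fin 6, Cfsg.hermForm 6 K4 2 (e i) (e j) = if i = j then 1 else 0 := by
  decide +kernel

theorem herm_smul (c d : K4) (u u' : V) :
    Cfsg.hermForm 6 K4 2 (c • u) (d • u') = c * d ^ 2 * Cfsg.hermForm 6 K4 2 u u' := by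
  simp only [Cfsg.hermForm, Finset.mul_sum]
  exact Finset.sum_congr rfl fun i _ => by simp [mul_pow]; ring

theorem unit_ap_e (x : G) (j : Fin 6) : unitV (ap x (e j)) := by
  rw [unitV, herm_ap, herm_e, if_pos rfl]

theorem orth_ap_e (x : G) {i j : Fin 6} (h : i ≠ j) :
    Cfsg.hermForm 6 K4 2 (ap x (e i)) (ap x (e j)) = 0 := by
  rw [herm_ap, herm_e, if_neg h]

/-! ### The even monomial group -/

/-- The even monomial group. -/
noncomputable def M : Subgroup G :=
  ((alternatingGroup (Fin 6)).comap perm).map N.subtype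

theorem mem_M {x : G} : x ∈ M ↔ ∃ σ, Equiv.Perm.sign σ = 1 ∧ Mono σ x := by
  constructor
  · rintro ⟨⟨y, hy⟩, h, rfl⟩
    exact ⟨_, Equiv.Perm.mem_alternatingGroup.1 h, hy.choose_spec⟩
  · rintro ⟨σ, hs, hx⟩
    exact ⟨⟨x, ⟨σ, hx⟩⟩, Equiv.Perm.mem_alternatingGroup.2 ((perm_eq hx _).symm ▸ hs), rfl⟩

theorem M_le_N : M ≤ N := Subgroup.map_subtype_le _

theorem A_le_M : A ≤ M := fun _ hx => mem_M.2 ⟨1, Equiv.Perm.sign_one, hx⟩

theorem card_M : Nat.card M = 87480 := by
  rw [M, Subgroup.card_map_of_injective N.subtype_injective]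
  have h := ((alternatingGroup (Fin 6)).comap perm).card_mul_index
  rw [Subgroup.index_comap_of_surjective _ perm_surjective, card_N, alternatingGroup.index_eq_two]
    at h
  omega

/-- The odd element. -/
def n0 : G := pm (Equiv.swap 0 1)

theorem n0_mul_self : n0 * n0 = 1 := by
  rw [n0, ← pm_mul, Equiv.swap_mul_self]
  exact pmHom.map_one

theorem mem_N_cases {x : G} (hx : x ∈ N) : x ∈ M ∨ n0 * x ∈ M := by
  obtain ⟨σ, hσ⟩ := hx
  rcases Int.units_eq_one_or (Equiv.Perm.sign σ) with hs | hs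
  · exact Or.inl (mem_M.2 ⟨σ, hs, hσ⟩)
  · refine Or.inr (mem_M.2 ⟨_, ?_, mono_mul (pm_mono _) hσ⟩)
    rw [map_mul, Equiv.Perm.sign_swap (by decide), hs]
    rfl

theorem pm_mem_M {σ : Equiv.Perm (Fin 6)} (h : Equiv.Perm.sign σ = 1) : pm σ ∈ M :=
  mem_M.2 ⟨σ, h, pm_mono σ⟩

theorem pm_ap_apply (σ : Equiv.Perm (Fin 6)) (u : V) (i : Fin 6) :
    ap (pm σ) u i = u (σ.symm i) := by
  show (pmat σ *ᵥ u) i = _
  rw [mulVec, dotProduct, Finset.sum_eq_single (σ.symm i)]
  · simp [pmat]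
  · intro k _ hk
    have : i ≠ σ k := fun h => hk (by rw [h, Equiv.symm_apply_apply])
    simp [pmat, this]
  · simp

/-! ### Named elements -/

/-- A five-cycle. -/
def p5 : Equiv.Perm (Fin 6) :=
  Equiv.swap 1 2 * Equiv.swap 2 3 * Equiv.swap 3 4 * Equiv.swap 4 5

/-- A diagonal generator. -/
def ga : G := dg ⟨![K4.w, K4.v, 1, 1, 1, 1], by decide +kernel⟩

theorem ga_mem : ga ∈ M := A_le_M (dg_mem _)
theorem c3_mem : pm s1 ∈ M := pm_mem_M (by decide +kernel)
theorem c5_mem : pm p5 ∈ M := pm_mem_M (by decide +kernel)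

/-- Three monomial generators and one more. -/
def gens4 (z : G) : Fin 4 → G := ![ga, pm s1, pm p5, z]

/-- A product of generators. -/
def wprod (g : Fin 4 → G) : List ℕ → G
  | [] => 1
  | k :: w => g (Fin.ofNat 4 k) * wprod g w

theorem wprod_mem {H : Subgroup G} {g : Fin 4 → G} (h : ∀ k, g k ∈ H) :
    ∀ w, wprod g w ∈ H
  | [] => one_mem _
  | _ :: w => mul_mem (h _) (wprod_mem h w)

theorem gens4_mem {H : Subgroup G} (hM : M ≤ H) {z : G} (hz : z ∈ H) : ∀ k, gens4 z k ∈ H := by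
  intro k
  fin_cases k
  exacts [hM ga_mem, hM c3_mem, hM c5_mem, hz]

/-- The fast action of the monomial generators. -/
def fgen : Fin 4 → V → V :=
  ![fun u => ![K4.w * u 0, K4.v * u 1, u 2, u 3, u 4, u 5],
    fun u => ![u 2, u 0, u 1, u 3, u 4, u 5],
    fun u => ![u 0, u 5, u 1, u 2, u 3, u 4],
    fun u => u]

theorem fgen_eq (k : Fin 4) (u : V) : ap (gens4 1 k) u = fgen k u := by
  have h1 : s1.symm 0 = 2 ∧ s1.symm 1 = 0 ∧ s1.symm 2 = 1 ∧ s1.symm 3 = 3 ∧ s1.symm 4 = 4 ∧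
      s1.symm 5 = 5 := by decide
  have h5 : p5.symm 0 = 0 ∧ p5.symm 1 = 5 ∧ p5.symm 2 = 1 ∧ p5.symm 3 = 2 ∧ p5.symm 4 = 3 ∧
      p5.symm 5 = 4 := by decide
  fin_cases k
  · funext i
    show ap ga u i = _
    rw [ga, dg_ap]
    fin_cases i <;> simp [fgen]
  · funext i
    show ap (pm s1) u i = _
    rw [pm_ap_apply]
    fin_cases i <;> simp [fgen, h1]
  · funext i
    show ap (pm p5) u i = _
    rw [pm_ap_apply]
    fin_cases i <;> simp [fgen, h5]
  · exact ap_one u

/-- The fast action of a word. -/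
def fapp : List ℕ → V → V
  | [], u => u
  | k :: w, u => fgen (Fin.ofNat 4 k) (fapp w u)

theorem fapp_eq : ∀ (w : List ℕ) (u : V), ap (wprod (gens4 1) w) u = fapp w u
  | [], u => ap_one u
  | k :: w, u => by rw [wprod, ap_mul, fapp_eq w, fgen_eq]; rfl

/-- A matrix by column codes. -/
def colsMat (l : List ℕ) : Matrix (Fin 6) (Fin 6) K4 :=
  Matrix.of fun i j => vec (l.getD j.val 0) i

/-- A frame element. -/
def elA1 : G := ofMat (colsMat Data.colsA1) (by decide +kernel) (by decide +kernel)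

/-- A frame element of the split type. -/
def elA0 : G := ofMat (colsMat Data.colsA0) (by decide +kernel) (by decide +kernel)

/-! ### The diagonal outer automorphism -/

/-- The scaling. -/
def dd : Fin 6 → K4 := ![1, 1, 1, 1, 1, K4.w]
/-- Its inverse. -/
def dd' : Fin 6 → K4 := ![1, 1, 1, 1, 1, K4.v]

theorem dd_facts : ∀ i, dd i * dd' i = 1 ∧ dd i * dd i ^ 2 = 1 ∧ dd' i * dd' i ^ 2 = 1 := by
  decide +kernel

/-- Conjugating a matrix by a diagonal. -/
def conjD (t t' : Fin 6 → K4) (ht : ∀ i, t i * t' i = 1) (h : ∀ i, t i * t i ^ 2 = 1)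
    (h' : ∀ i, t' i * t' i ^ 2 = 1) (x : G) : G :=
  ⟨⟨diagonal t * x.1.1 * diagonal t', by
      rw [det_mul, det_mul, x.1.2, mul_one, ← det_mul, diagonal_mul_diagonal]
      simp [ht]⟩, by
    intro u u'
    have key : ∀ (s : Fin 6 → K4), (∀ i, s i * s i ^ 2 = 1) → ∀ p p' : V,
        Cfsg.hermForm 6 K4 2 (diagonal s *ᵥ p) (diagonal s *ᵥ p') =
          Cfsg.hermForm 6 K4 2 p p' := by
      intro s hs p p'
      refine Finset.sum_congr rfl fun i _ => ?_
      rw [mulVec_diagonal, mulVec_diagonal, mul_pow, mul_mul_mul_comm, hs i, one_mul]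
    show Cfsg.hermForm 6 K4 2 ((diagonal t * x.1.1 * diagonal t') *ᵥ u)
      ((diagonal t * x.1.1 * diagonal t') *ᵥ u') = _
    rw [← mulVec_mulVec, ← mulVec_mulVec, ← mulVec_mulVec, ← mulVec_mulVec, key t h]
    exact (x.2 _ _).trans (key t' h' u u')⟩

theorem dd_inv (i : Fin 6) : dd' i * dd i = 1 := (mul_comm _ _).trans (dd_facts i).1

theorem diag_dd : diagonal dd' * diagonal dd = (1 : Matrix (Fin 6) (Fin 6) K4) ∧
    diagonal dd * diagonal dd' = (1 : Matrix (Fin 6) (Fin 6) K4) := by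
  constructor <;> rw [diagonal_mul_diagonal, ← diagonal_one] <;> congr 1 <;> funext i
  exacts [dd_inv i, (dd_facts i).1]

/-- The automorphism. -/
def delta : G ≃* G where
  toFun := conjD dd dd' (fun i => (dd_facts i).1) (fun i => (dd_facts i).2.1)
    (fun i => (dd_facts i).2.2)
  invFun := conjD dd' dd dd_inv (fun i => (dd_facts i).2.2) (fun i => (dd_facts i).2.1)
  left_inv x := Subtype.ext (Subtype.ext (by
    show diagonal dd' * (diagonal dd * x.1.1 * diagonal dd') * diagonal dd = x.1.1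
    simp only [mul_assoc, diag_dd.1, mul_one]
    rw [← mul_assoc, diag_dd.1, one_mul]))
  right_inv x := Subtype.ext (Subtype.ext (by
    show diagonal dd * (diagonal dd' * x.1.1 * diagonal dd) * diagonal dd' = x.1.1
    simp only [mul_assoc, diag_dd.2, mul_one]
    rw [← mul_assoc, diag_dd.2, one_mul]))
  map_mul' x y := Subtype.ext (Subtype.ext (by
    show diagonal dd * (x.1.1 * y.1.1) * diagonal dd' =
      (diagonal dd * x.1.1 * diagonal dd') * (diagonal dd * y.1.1 * diagonal dd')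
    simp only [mul_assoc]
    congr 2
    rw [← mul_assoc (diagonal dd') (diagonal dd), diag_dd.1, one_mul]))

theorem delta_ap (x : G) (u : V) :
    ap (delta x) u = fun i => dd i * ap x (fun k => dd' k * u k) i := by
  show (diagonal dd * x.1.1 * diagonal dd') *ᵥ u = _
  rw [← mulVec_mulVec, ← mulVec_mulVec]
  funext i
  rw [mulVec_diagonal]
  congr 2
  exact funext fun k => mulVec_diagonal dd' u k

theorem delta_mono {σ : Equiv.Perm (Fin 6)} {x : G} (h : Mono σ x) : Mono σ (delta x) := fun j => by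
  obtain ⟨c, hc⟩ := h j
  refine ⟨dd (σ j) * dd' j * c, ?_⟩
  have hu : (fun k => dd' k * e j k) = dd' j • e j := by
    funext k
    by_cases hk : k = j <;> simp [e, hk]
  rw [delta_ap, hu, ap_smul, hc]
  funext i
  by_cases hi : i = σ j
  · simp only [hi, Pi.smul_apply, smul_eq_mul, e, if_true]
    ring
  · simp [e, hi]

theorem delta_symm_mono {σ : Equiv.Perm (Fin 6)} {x : G} (h : Mono σ x) :
    Mono σ (delta.symm x) := by
  have hpow : delta.symm x = delta (delta x) := by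
    apply delta.injective
    rw [MulEquiv.apply_symm_apply]
    refine Subtype.ext (Subtype.ext ?_)
    show x.1.1 = diagonal dd * (diagonal dd * (diagonal dd * x.1.1 * diagonal dd') * diagonal dd')
      * diagonal dd'
    have h3 : diagonal dd * diagonal dd * diagonal dd = (1 : Matrix (Fin 6) (Fin 6) K4) ∧
        diagonal dd' * diagonal dd' * diagonal dd' = (1 : Matrix (Fin 6) (Fin 6) K4) := by
      constructor <;> rw [diagonal_mul_diagonal, diagonal_mul_diagonal, ← diagonal_one] <;>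
        congr 1 <;> decide +kernel
    calc x.1.1 = (diagonal dd * diagonal dd * diagonal dd) * x.1.1 *
          (diagonal dd' * diagonal dd' * diagonal dd') := by rw [h3.1, h3.2, one_mul, mul_one]
      _ = _ := by simp only [mul_assoc]
  rw [hpow]
  exact delta_mono (delta_mono h)

theorem map_delta_M : M.map delta.toMonoidHom = M := by
  ext x
  constructor
  · rintro ⟨y, hy, rfl⟩
    obtain ⟨σ, hs, hy⟩ := mem_M.1 hy
    exact mem_M.2 ⟨σ, hs, delta_mono hy⟩
  · intro hx
    obtain ⟨σ, hs, hx⟩ := mem_M.1 hx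
    exact ⟨delta.symm x, mem_M.2 ⟨σ, hs, delta_symm_mono hx⟩, delta.apply_symm_apply x⟩

theorem delta_n0 : delta n0 = n0 := by
  refine ext_e fun j => funext fun i => ?_
  rw [delta_ap, n0, pm_ap]
  show dd i * ap (pm (Equiv.swap 0 1)) (fun k => dd' k * e j k) i = _
  rw [pm_ap_apply]
  revert j i
  decide +kernel

end Cfsg.Agent.Lib.SU6U43
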