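import Cfsg.Agent.Lib.McL275.Lines
import Cfsg.Agent.Lib.SU6U43.Data

/-!
Facts on the group on 112 lines: four base points, trivial centre, maximality of a point stabiliser.
-/

set_option autoImplicit false
set_option maxRecDepth 20000

namespace Cfsg.Agent.Lib.SU6U43

open MulAction
open Cfsg.Agent.Lib.Leech.U43 Cfsg.Agent.Lib.McL275

/-- The four base points. -/
def basePts : List (Fin 112) := [0, 5, 10, 17]

theorem base_cases : (∀ t : Fin 112, runW (lev0 t) 0 = 0 → lev0 t = []) ∧
    runW (lev0 0) 0 = 0 := by decide +kernel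

/-- The chain product. -/
noncomputable def chainEl (t : Fin 112 × Fin 81 × Fin 30 × Fin 12) : LL :=
  elL (lev3 t.2.2.2 ++ lev2 t.2.2.1 ++ lev1 t.2.1 ++ lev0 t.1)

theorem chain_base_inj {t t' : Fin 112 × Fin 81 × Fin 30 × Fin 12}
    (h : ∀ p ∈ basePts, (chainEl t).1 p = (chainEl t').1 p) : t = t' := by
  obtain ⟨a, b, c, d⟩ := t
  obtain ⟨a', b', c', d'⟩ := t'
  simp only [chainEl, elL, wordP_append] at h
  have e : ∀ x ∈ basePts, wordP (lev0 a) (wordP (lev1 b) (wordP (lev2 c) (wordP (lev3 d) x)))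
      = wordP (lev0 a') (wordP (lev1 b') (wordP (lev2 c') (wordP (lev3 d') x))) := h
  obtain ⟨n0, f1, n1, f2, n2, f3, n3⟩ := chain_check
  have ha : a = a' := by
    have := e 0 (by decide)
    simp only [wordP_apply] at this
    rw [(f3 d).1, (f3 d').1, (f2 c).1, (f2 c').1, f1, f1] at this
    exact List.inj_on_of_nodup_map n0 (List.mem_finRange _) (List.mem_finRange _)
      (congrArg Fin.val this)
  subst ha
  have e1 := fun x hx => (wordP (lev0 a)).injective (e x hx)
  have hb : b = b' := by
    have := e1 5 (by decide)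
    simp only [wordP_apply] at this
    rw [(f3 d).2.1, (f3 d').2.1, (f2 c).2, (f2 c').2] at this
    exact List.inj_on_of_nodup_map n1 (List.mem_finRange _) (List.mem_finRange _)
      (congrArg Fin.val this)
  subst hb
  have e2 := fun x hx => (wordP (lev1 b)).injective (e1 x hx)
  have hc : c = c' := by
    have := e2 10 (by decide)
    simp only [wordP_apply] at this
    rw [(f3 d).2.2, (f3 d').2.2] at this
    exact List.inj_on_of_nodup_map n2 (List.mem_finRange _) (List.mem_finRange _)
      (congrArg Fin.val this)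
  subst hc
  have := (wordP (lev2 c)).injective (e2 17 (by decide))
  simp only [wordP_apply] at this
  obtain rfl : d = d' := List.inj_on_of_nodup_map n3 (List.mem_finRange _)
    (List.mem_finRange _) (congrArg Fin.val this)
  rfl

theorem chain_bij : Function.Bijective chainEl := by
  refine (Nat.bijective_iff_injective_and_card chainEl).2 ⟨fun t t' h => chain_base_inj fun p _ => by rw [h], ?_⟩
  rw [card_LL]
  simp

theorem LL_ext {l l' : LL} (h : ∀ p ∈ basePts, l.1 p = l'.1 p) : l = l' := by
  obtain ⟨t, rfl⟩ := chain_bij.2 l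
  obtain ⟨t', rfl⟩ := chain_bij.2 l'
  rw [chain_base_inj h]

theorem stab_decomp {l : LL} (h : l ∈ stabilizer LL (0 : Fin 112)) :
    ∃ b c d, l = elL (lev3 d ++ lev2 c ++ lev1 b) := by
  obtain ⟨⟨a, b, c, d⟩, rfl⟩ := chain_bij.2 l
  have h0 : runW (lev3 d ++ lev2 c ++ lev1 b ++ lev0 a) 0 = 0 :=
    (wordP_apply _ _).symm.trans (mem_stabilizer_iff.1 h)
  obtain ⟨-, f1, -, f2, -, f3, -⟩ := chain_check
  simp only [runW_append] at h0
  rw [(f3 d).1, (f2 c).1, f1] at h0
  exact ⟨b, c, d, by rw [chainEl, base_cases.1 a h0, List.append_nil]⟩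

/-- A generator word. -/
def kword (k : ℕ) : List ℕ := Data.kw.getD k []

theorem kword_fix : (∀ k : Fin 3, runW (kword k.val) 0 = 0) ∧
    ∀ j : Fin 112, (∀ k : Fin 3, runW (kword k.val) j = j) → j = 0 := by
  decide +kernel

theorem center_LL {z : LL} (hz : ∀ l : LL, l * z = z * l) : z = 1 := by
  have h0 : z.1 (0 : Fin 112) = 0 := kword_fix.2 _ fun k => by
    have h := congrArg (fun x : LL => x.1 0) (hz (elL (kword k.val)))
    have e1 : (elL (kword k.val)).1 (z.1 0) = z.1 ((elL (kword k.val)).1 0) := h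
    rwa [show (elL (kword k.val)).1 0 = runW (kword k.val) 0 from wordP_apply _ _, kword_fix.1 k,
      show (elL (kword k.val)).1 (z.1 0) = runW (kword k.val) (z.1 0) from wordP_apply _ _] at e1
  refine Subtype.ext (Equiv.ext fun i => ?_)
  obtain ⟨l, hl⟩ := MulAction.exists_smul_eq LL (0 : Fin 112) i
  have h := congrArg (fun x : LL => x.1 0) (hz l)
  have e1 : l.1 (z.1 0) = z.1 (l.1 0) := h
  rw [h0, show l.1 0 = i from hl] at e1
  exact e1.symm.trans rfl

theorem suborbit_count :
    ((Finset.univ.filter fun j : Fin 112 => j = 0 ∨ adjB 0 j = true).card = 31) ∧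
    ((Finset.univ.filter fun j : Fin 112 => j = 0 ∨ adjB 0 j = false).card = 82) := by
  decide +kernel

theorem stab_maximal {Y : Subgroup LL} (h : stabilizer LL (0 : Fin 112) ≤ Y) :
    Y = stabilizer LL (0 : Fin 112) ∨ Y = ⊤ := by
  classical
  let O : Finset (Fin 112) := Finset.univ.filter fun j => ∃ y ∈ Y, y.1 0 = j
  have hclosed : ∀ j k, j ∈ O → j ≠ 0 → k ≠ 0 → adjB 0 j = adjB 0 k → k ∈ O := by
    intro j k hj hj0 hk0 ha
    simp only [O, Finset.mem_filter, Finset.mem_univ, true_and] at hj ⊢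
    obtain ⟨y, hy, rfl⟩ := hj
    obtain ⟨l, hl, hl0, hlj⟩ := suborbit_transitive hj0 hk0 ha
    exact ⟨(⟨l, hl⟩ : LL) * y, mul_mem (h (show (⟨l, hl⟩ : LL) • (0 : Fin 112) = 0 from hl0)) hy, hlj⟩
  by_cases hall : ∀ j, j ∈ O → j = 0
  · refine Or.inl (le_antisymm (fun y hy => ?_) h)
    exact hall _ (by simp only [O, Finset.mem_filter, Finset.mem_univ, true_and]; exact ⟨y, hy, rfl⟩)
  push Not at hall
  obtain ⟨j, hj, hj0⟩ := hall
  refine Or.inr ?_
  by_cases hO : O = Finset.univ
  · refine eq_top_iff.2 fun l _ => ?_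
    have := hO ▸ Finset.mem_univ (l.1 0)
    simp only [O, Finset.mem_filter, Finset.mem_univ, true_and] at this
    obtain ⟨y, hy, hyl⟩ := this
    have hs : y⁻¹ * l ∈ Y := h (by
      show (y⁻¹ * l) • (0 : Fin 112) = 0
      rw [mul_smul, inv_smul_eq_iff]
      exact hyl.symm)
    simpa using mul_mem hy hs
  · exfalso
    have h00 : (0 : Fin 112) ∈ O := by
      simp only [O, Finset.mem_filter, Finset.mem_univ, true_and]
      exact ⟨1, one_mem _, rfl⟩
    have hne : ∀ k, k ∈ O → k ≠ 0 → adjB 0 k = adjB 0 j := by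
      intro k hk hk0
      by_contra hd
      refine hO (Finset.eq_univ_iff_forall.2 fun i => ?_)
      by_cases hi : i = 0
      · exact hi ▸ h00
      · by_cases hia : adjB 0 j = adjB 0 i
        · exact hclosed j i hj hj0 hi hia
        · refine hclosed k i hk hk0 hi ?_
          cases hx : adjB 0 i <;> cases hy : adjB 0 j <;> cases hz : adjB 0 k <;> simp_all
    have heq : O = Finset.univ.filter fun k => k = 0 ∨ adjB 0 k = adjB 0 j := by
      ext k
      simp only [Finset.mem_filter, Finset.mem_univ, true_and]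
      constructor
      · intro hk
        by_cases hk0 : k = 0
        exacts [Or.inl hk0, Or.inr (hne k hk hk0)]
      · intro hk
        by_cases hk0 : k = 0
        · exact hk0 ▸ h00
        · exact hclosed j k hj hj0 hk0 (hk.resolve_left hk0).symm
    have hcard : O.card ∣ 112 := by
      have e : O = (orbit Y (0 : Fin 112)).toFinset := by
        ext k
        simp only [O, Finset.mem_filter, Finset.mem_univ, true_and, Set.mem_toFinset]
        exact ⟨fun ⟨y, hy, hyk⟩ => ⟨⟨y, hy⟩, hyk⟩, fun ⟨⟨y, hy⟩, hyk⟩ => ⟨y, hy, hyk⟩⟩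
      have hcl : (stabilizer LL (0 : Fin 112)).subgroupOf Y = stabilizer Y (0 : Fin 112) := by
        ext; rfl
      have h1 := Nat.card_congr (orbitProdStabilizerEquivGroup Y (0 : Fin 112))
      rw [Nat.card_prod, Nat.card_eq_fintype_card, ← Set.toFinset_card, ← e, ← hcl,
        Nat.card_congr (Subgroup.subgroupOfEquivOfLe h).toEquiv, card_lineStab] at h1
      have h2 := Subgroup.card_subgroup_dvd_card Y
      rw [card_LL, ← h1, show (3265920 : ℕ) = 112 * 29160 by norm_num] at h2
      exact Nat.dvd_of_mul_dvd_mul_right (by norm_num) h2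
    rw [heq] at hcard
    cases hja : adjB 0 j
    · rw [hja, suborbit_count.2] at hcard
      norm_num at hcard
    · rw [hja, suborbit_count.1] at hcard
      norm_num at hcard

end Cfsg.Agent.Lib.SU6U43
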