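import Cfsg.Agent.Lib.SU6U43.Class
import Cfsg.Agent.Lib.SU6U43.Lines

/-!
One subgroup `3.U₄(3)`: its action on 112 frames.
-/

set_option autoImplicit false
set_option maxRecDepth 20000

namespace Cfsg.Agent.Lib.SU6U43

open Matrix MulAction
open Cfsg.Agent.Lib.CosetTable.HeSp44 (K4)
open Cfsg.Agent.Lib.Leech.U43 (runW)
open Cfsg.Agent.Lib.McL275 (LL P112 wordP wordP_apply wordP_mem elL genP card_LL card_lineStab)

/-- The subgroup. -/
def K1 : Subgroup G := Subgroup.closure (Set.range (gens4 g1))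

theorem gens_mem_K1 (k : Fin 4) : gens4 g1 k ∈ K1 := Subgroup.subset_closure ⟨k, rfl⟩

/-- A code in a frame. -/
def fcode (k : Fin 112) (j : Fin 6) : ℕ := (Data.frames.getD k.val []).getD j.val 0

/-- The frame of a code. -/
def frameOf (n : ℕ) : ℕ := Data.frames.findIdx fun l => l.contains n

theorem fcode_facts :
    (∀ k j, frameOf (fcode k j) = k.val) ∧
    (∀ k j, pc (vec (fcode k j)) = fcode k j ∧ vec (fcode k j) ≠ 0) ∧
    (∀ j, ∃ i, fcode 0 j = code (e i)) ∧ (∀ i, ∃ j, fcode 0 j = code (e i)) := by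
  decide +kernel

theorem frame_unique {k k' : Fin 112} {j j' : Fin 6} (h : fcode k j = fcode k' j') : k = k' :=
  Fin.ext (by rw [← fcode_facts.1 k j, h, fcode_facts.1 k' j'])

/-- Moving the frames. -/
def Acts (x : G) (σ : Fin 112 → Fin 112) : Prop :=
  ∀ k : Fin 112, ∀ j : Fin 6, ∃ j' : Fin 6, pc (ap x (vec (fcode k j))) = fcode (σ k) j'

theorem acts_one : Acts 1 id := fun k j => ⟨j, by rw [ap_one]; exact (fcode_facts.2.1 k j).1⟩

theorem acts_mul {x y : G} {σ τ : Fin 112 → Fin 112} (hx : Acts x σ) (hy : Acts y τ) :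
    Acts (x * y) (σ ∘ τ) := fun k j => by
  obtain ⟨j1, h1⟩ := hy k j
  obtain ⟨j2, h2⟩ := hx (τ k) j1
  refine ⟨j2, ?_⟩
  have hne : ap y (vec (fcode k j)) ≠ 0 := fun h =>
    (fcode_facts.2.1 k j).2 (ap_inj y (h.trans (ap_zero y).symm))
  obtain ⟨c, hc, e1⟩ := pc_spec hne
  rw [h1] at e1
  rw [ap_mul, show σ (τ k) = (σ ∘ τ) k from rfl] at *
  rw [← h2, e1, ap_smul, pc_smul hc fun h => hne (ap_inj x (h.trans (ap_zero x).symm))]

theorem acts_unique {x : G} {σ τ : Fin 112 → Fin 112} (h : Acts x σ) (h' : Acts x τ) : σ = τ :=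
  funext fun k => by
    obtain ⟨j, hj⟩ := h k 0
    obtain ⟨j', hj'⟩ := h' k 0
    exact frame_unique (hj.symm.trans hj')

/-- A generator on the frames. -/
def gperm (k : Fin 4) (i : Fin 112) : Fin 112 :=
  Fin.ofNat 112 ((Data.perms.getD k.val []).getD i.val 0)

theorem gen_acts : ∀ b : Fin 4, Acts (gens4 g1 b) (gperm b) := by
  unfold Acts
  decide +kernel

theorem K1_acts {x : G} (hx : x ∈ K1) : ∃ σ, Acts x σ := by
  rw [K1, ← Subgroup.mem_toSubmonoid, Subgroup.closure_toSubmonoid_of_finite] at hx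
  induction hx using Submonoid.closure_induction with
  | mem x hx => obtain ⟨b, rfl⟩ := hx; exact ⟨_, gen_acts b⟩
  | one => exact ⟨_, acts_one⟩
  | mul x y _ _ ihx ihy =>
    obtain ⟨σ, hσ⟩ := ihx
    obtain ⟨τ, hτ⟩ := ihy
    exact ⟨_, acts_mul hσ hτ⟩

/-- The map on frames. -/
noncomputable def sig (x : K1) : Fin 112 → Fin 112 := (K1_acts x.2).choose

theorem sig_spec (x : K1) : Acts x.1 (sig x) := (K1_acts x.2).choose_spec

theorem sig_eq {x : K1} {σ : Fin 112 → Fin 112} (h : Acts x.1 σ) : sig x = σ :=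
  acts_unique (sig_spec x) h

theorem sig_mul (x y : K1) : sig (x * y) = sig x ∘ sig y :=
  sig_eq (acts_mul (sig_spec x) (sig_spec y))

theorem sig_one : sig 1 = id := sig_eq acts_one

/-- The action on frames. -/
noncomputable def rho0 : K1 →* P112 where
  toFun x :=
    { toFun := sig x
      invFun := sig x⁻¹
      left_inv := fun i => by
        show (sig x⁻¹ ∘ sig x) i = i
        rw [← sig_mul, inv_mul_cancel, sig_one]; rfl
      right_inv := fun i => by
        show (sig x ∘ sig x⁻¹) i = i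
        rw [← sig_mul, mul_inv_cancel, sig_one]; rfl }
  map_one' := Equiv.ext fun i => congrFun sig_one i
  map_mul' x y := Equiv.ext fun i => congrFun (sig_mul x y) i

/-- Applying a product of generators. -/
def prun : List ℕ → Fin 112 → Fin 112
  | [], i => i
  | k :: w, i => gperm (Fin.ofNat 4 k) (prun w i)

theorem prun_acts : ∀ w : List ℕ, Acts (wprod (gens4 g1) w) (prun w)
  | [] => acts_one
  | k :: w => acts_mul (gen_acts _) (prun_acts w)

theorem perm_checks :
    (∀ b : Fin 4, ∀ i, gperm b i = runW (kword b.val) i) ∧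
    (∀ b : Fin 5, ∀ i, prun (Data.lw.getD b.val []) i = Leech.U43.permG b i) := by
  decide +kernel

theorem rho0_of {x : G} (hx : x ∈ K1) {σ : Fin 112 → Fin 112} (h : Acts x σ) (l : P112)
    (hl : ∀ i, l i = σ i) : rho0 ⟨x, hx⟩ = l :=
  Equiv.ext fun i => (congrFun (sig_eq (x := ⟨x, hx⟩) h) i).trans (hl i).symm

theorem rho0_mem (x : K1) : rho0 x ∈ LL := by
  obtain ⟨x, hx⟩ := x
  have : x ∈ (LL.comap rho0).map K1.subtype := by
    refine (Subgroup.closure_le _).2 ?_ hx
    rintro _ ⟨b, rfl⟩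
    refine ⟨⟨gens4 g1 b, gens_mem_K1 b⟩, ?_, rfl⟩
    rw [SetLike.mem_coe, Subgroup.mem_comap, rho0_of (gens_mem_K1 b) (gen_acts b)
      (wordP (kword b.val)) fun i => (wordP_apply _ i).trans (perm_checks.1 b i).symm]
    exact wordP_mem _
  obtain ⟨y, hy, hyx⟩ := this
  rw [show (⟨x, hx⟩ : K1) = y from Subtype.ext hyx.symm]
  exact hy

/-- The action, into the group on lines. -/
noncomputable def rho1 : K1 →* LL := rho0.codRestrict LL rho0_mem

theorem rho1_apply (x : K1) (i : Fin 112) : (rho1 x).1 i = sig x i := rfl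

theorem rho1_surjective : Function.Surjective rho1 := by
  rw [← MonoidHom.range_eq_top]
  have : LL ≤ rho1.range.map LL.subtype := by
    refine (Subgroup.closure_le _).2 ?_
    rintro _ ⟨b, rfl⟩
    have hm : wprod (gens4 g1) (Data.lw.getD b.val []) ∈ K1 := wprod_mem gens_mem_K1 _
    exact ⟨rho1 ⟨_, hm⟩, ⟨_, rfl⟩,
      rho0_of hm (prun_acts _) (genP b) fun i => (perm_checks.2 b i).symm⟩
  refine eq_top_iff.2 fun l _ => ?_
  obtain ⟨y, hy, hyl⟩ := this l.2
  rwa [← Subtype.ext hyl]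

theorem supp_checks : ∀ σ : Equiv.Perm (Fin 6),
    (∀ k : Fin 112, ∀ j, ∃ j', ∀ i,
      vec (fcode k j) i = 0 ↔ vec (fcode k j') (σ i) = 0) → σ = 1 := by
  decide +kernel

theorem diag_checks : ∀ d : AT,
    (∀ k : Fin 112, ∀ j, ∃ j', pc (fun i => d.1 i * vec (fcode k j) i) = fcode k j') →
      ∀ i, d.1 i = d.1 0 := by
  decide +kernel

/-- A scalar word. -/
def zWord : List ℕ := [2, 0, 0, 2, 0, 0, 2, 0, 0, 2, 0, 0, 2, 0, 0]

theorem zWord_check : ∀ j : Fin 6, vec (runC g1 zWord (code (e j))) = fun i => K4.w * e j i := by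
  decide +kernel

theorem sig_id_scalar {x : K1} (h : rho1 x = 1) : ∃ c : K4, ∀ j, ap x.1 (e j) = c • e j := by
  have hs : Acts x.1 id := by
    have : sig x = id := funext fun i => congrArg (fun l : LL => l.1 i) h
    exact this ▸ sig_spec x
  obtain ⟨σ, hσ⟩ : ∃ σ, Mono σ x.1 := mono_of_cols fun i => by
    obtain ⟨j, hj⟩ := fcode_facts.2.2.2 i
    obtain ⟨j', hj'⟩ := hs 0 j
    obtain ⟨i', hi'⟩ := fcode_facts.2.2.1 j'
    rw [hj, vec_code] at hj'
    obtain ⟨c, -, hc⟩ := eq_smul_of_pc (ap_e_ne x.1 i) (e_ne_zero i')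
      (hj'.trans (hi'.trans (e_code i').symm))
    exact ⟨i', c, hc⟩
  have hy : (pm σ)⁻¹ * x.1 ∈ A := by
    have h := mono_mul (mono_inv (pm_mono σ)) hσ
    rwa [inv_mul_cancel] at h
  obtain ⟨d, hd⟩ := mem_A_iff.1 hy
  have hx : x.1 = pm σ * dg d := by rw [hd, mul_inv_cancel_left]
  have hap : ∀ u i, ap x.1 u (σ i) = d.1 i * u i := fun u i => by
    rw [hx, ap_mul, pm_ap_apply, Equiv.symm_apply_apply, dg_ap]
  have hσ1 : σ = 1 := supp_checks σ fun k j => by
    obtain ⟨j', hj'⟩ := hs k j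
    have hne : ap x.1 (vec (fcode k j)) ≠ 0 := fun h0 =>
      (fcode_facts.2.1 k j).2 (ap_inj x.1 (h0.trans (ap_zero x.1).symm))
    obtain ⟨c, hc, hcv⟩ := pc_spec hne
    rw [hj'] at hcv
    refine ⟨j', fun i => ?_⟩
    have : vec (fcode k j') (σ i) = c * (d.1 i * vec (fcode k j) i) := by
      rw [show fcode k j' = fcode (id k) j' from rfl, hcv, Pi.smul_apply, smul_eq_mul, hap]
    simp [this, hc, AT_ne d i]
  subst hσ1
  have hd0 := diag_checks d fun k j => by
    obtain ⟨j', hj'⟩ := hs k j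
    refine ⟨j', ?_⟩
    rw [show (fun i => d.1 i * vec (fcode k j) i) = ap x.1 (vec (fcode k j)) from
      funext fun i => (hap _ i).symm]
    exact hj'
  refine ⟨d.1 0, fun j => funext fun i => ?_⟩
  rw [show ap x.1 (e j) i = d.1 i * e j i from hap _ i, hd0 i]
  rfl

theorem scalar_acts {x : G} {c : K4} (hc : c ≠ 0) (h : ∀ j, ap x (e j) = c • e j) : Acts x id := by
  intro k j
  refine ⟨j, ?_⟩
  have hx : ∀ u, ap x u = c • u := fun u => by
    have hm : x.1.1 = c • (1 : Matrix (Fin 6) (Fin 6) K4) := by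
      ext a b
      rw [← ap_e, h]
      by_cases hab : a = b <;> simp [e, hab, Matrix.one_apply]
    show x.1.1 *ᵥ u = _
    rw [hm, smul_mulVec, one_mulVec]
  rw [hx, pc_smul hc (fcode_facts.2.1 k j).2]
  exact (fcode_facts.2.1 k j).1

theorem card_ker : Nat.card rho1.ker = 3 := by
  apply le_antisymm
  · have hS : Fintype.card {c : K4 // c ≠ 0} = 3 := by decide +kernel
    let f : rho1.ker → {c : K4 // c ≠ 0} := fun x =>
      ⟨(sig_id_scalar x.2).choose, fun h0 => ap_e_ne x.1.1 0
        (by rw [(sig_id_scalar x.2).choose_spec 0, h0, zero_smul])⟩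
    have hf : Function.Injective f := fun x y h => Subtype.ext (Subtype.ext (ext_e fun j => by
      rw [(sig_id_scalar x.2).choose_spec j, (sig_id_scalar y.2).choose_spec j,
        show (sig_id_scalar x.2).choose = (sig_id_scalar y.2).choose from congrArg Subtype.val h]))
    have := Nat.card_le_card_of_injective f hf
    rwa [Nat.card_eq_fintype_card (α := {c : K4 // c ≠ 0}), hS] at this
  · let z : K1 := ⟨_, wprod_mem gens_mem_K1 zWord⟩
    have hz : ∀ j, ap z.1 (e j) = K4.w • e j := fun j => by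
      show ap (wprod (gens4 g1) zWord) (e j) = _
      rw [← runC_eq, zWord_check]
      rfl
    have hzk : z ∈ rho1.ker := MonoidHom.mem_ker.2 (Subtype.ext (Equiv.ext fun i => by
      rw [rho1_apply, sig_eq (scalar_acts (by decide) hz)]; rfl))
    have hne : z ≠ 1 := fun h => by
      have := hz 0
      rw [h, show ((1 : K1) : G) = 1 from rfl, ap_one] at this
      exact absurd (congrFun this 0) (by decide)
    have hne2 : z * z ≠ 1 := fun h => by
      have := hz 0
      have h2 : ap (z * z : K1).1 (e 0) = e 0 := by rw [h]; exact ap_one _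
      rw [show ((z * z : K1) : G) = z.1 * z.1 from rfl, ap_mul, this, ap_smul, this] at h2
      exact absurd (congrFun h2 0) (by decide)
    let g : Fin 3 → rho1.ker := ![1, ⟨z, hzk⟩, ⟨z * z, mul_mem hzk hzk⟩]
    have hg : Function.Injective g := by
      intro a b hab
      have h := congrArg Subtype.val hab
      fin_cases a <;> fin_cases b <;>
        first
          | rfl
          | exact absurd h.symm hne
          | exact absurd h hne
          | exact absurd h.symm hne2
          | exact absurd h hne2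
          | exact absurd (mul_left_cancel (h.trans (mul_one z).symm)) hne
          | exact absurd (mul_left_cancel (h.symm.trans (mul_one z).symm)) hne
    simpa using Nat.card_le_card_of_injective g hg

theorem card_K1 : Nat.card K1 = 9797760 := by
  have h := rho1.ker.card_mul_index
  rw [Subgroup.index_ker, MonoidHom.range_eq_top.2 rho1_surjective, Subgroup.card_top, card_ker,
    card_LL] at h
  omega

theorem ker_eq_center : rho1.ker = Subgroup.center K1 := by
  ext x
  rw [MonoidHom.mem_ker, Subgroup.mem_center_iff]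
  constructor
  · intro h y
    obtain ⟨c, hc⟩ := sig_id_scalar h
    refine Subtype.ext (ext_e fun j => ?_)
    show ap (y.1 * x.1) (e j) = ap (x.1 * y.1) (e j)
    have hm : x.1.1.1 = c • (1 : Matrix (Fin 6) (Fin 6) K4) := by
      ext a b
      rw [← ap_e, hc]
      by_cases hab : a = b <;> simp [e, hab, Matrix.one_apply]
    rw [ap_mul, ap_mul, hc, ap_smul]
    show c • ap y.1 (e j) = x.1.1.1 *ᵥ ap y.1 (e j)
    rw [hm, smul_mulVec, one_mulVec]
  · intro h
    refine center_LL fun l => ?_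
    obtain ⟨y, rfl⟩ := rho1_surjective l
    rw [← map_mul, ← map_mul, h y]

theorem rho1_fix {x : K1} (h : rho1 x ∈ stabilizer LL (0 : Fin 112)) : x.1 ∈ N := by
  have h0 : sig x 0 = 0 := h
  refine mono_of_cols fun i => ?_
  obtain ⟨j, hj⟩ := fcode_facts.2.2.2 i
  obtain ⟨j', hj'⟩ := sig_spec x 0 j
  rw [h0, hj, vec_code] at hj'
  obtain ⟨i', hi'⟩ := fcode_facts.2.2.1 j'
  obtain ⟨c, -, hc⟩ := eq_smul_of_pc (ap_e_ne x.1 i) (e_ne_zero i')
    (hj'.trans (hi'.trans (e_code i').symm))
  exact ⟨i', c, hc⟩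

end Cfsg.Agent.Lib.SU6U43
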