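import Cfsg.Agent.Lib.SU6U43.K1
import Cfsg.Agent.Lib.SU6U43.Abelian

/-!
The three classes of `3.U₄(3)` in `SU(6, 2)`.
-/

set_option autoImplicit false
set_option maxRecDepth 20000

namespace Cfsg.Agent.Lib.SU6U43

open MulAction
open scoped Pointwise
open Cfsg.Agent.Lib.McL275 (LL card_LL card_lineStab lineEquiv)
open Cfsg.Agent.Lib.Leech.U43 (PSU9 psu43_iso)

theorem A_pow_three {a : G} (ha : a ∈ A) : a * a * a = 1 := by
  obtain ⟨d, rfl⟩ := mem_A_iff.1 ha
  refine ext_e fun j => ?_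
  rw [ap_mul, ap_mul, ap_one, dg_ap_e, ap_smul, dg_ap_e, smul_smul, ap_smul, dg_ap_e, smul_smul]
  have h3 : ∀ c : CosetTable.HeSp44.K4, c ≠ 0 → c * c * c = 1 := by decide +kernel
  rw [h3 _ (AT_ne d j), one_smul]

/-- The even monomial group from size and position alone. -/
theorem eq_M_of_le_N {X : Subgroup G} (hX : X ≤ N) (hc : Nat.card X = 87480) : X = M := by
  have hidx : (X.subgroupOf N).index = 2 := by
    have h := (X.subgroupOf N).card_mul_index
    rw [Nat.card_congr (Subgroup.subgroupOfEquivOfLe hX).toEquiv, hc, card_N] at h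
    omega
  refine eq_M hc (fun a ha => ?_) fun x hx a ha => N_normal_A (hX hx) ha
  let y : N := ⟨a, A_le_N ha⟩
  have hy : y * y * y = 1 := Subtype.ext (A_pow_three ha)
  have h2 := Subgroup.mul_self_mem_of_index_two hidx y
  have h4 := mul_mem h2 h2
  rw [show y * y * (y * y) = y by rw [← mul_assoc (y * y) y y, hy, one_mul]] at h4
  exact h4

/-- A triple cover over the monomial group is standard. -/
theorem std_of_hom {K : Subgroup G} (ψ : K →* LL) (hψ : Function.Surjective ψ)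
    (h3 : Nat.card ψ.ker = 3)
    (hN : ∀ x : K, ψ x ∈ stabilizer LL (0 : Fin 112) → x.1 ∈ N) :
    Std K ∧ ((stabilizer LL (0 : Fin 112)).comap ψ).map K.subtype = M := by
  have hK : Nat.card K = 9797760 := by
    have h := ψ.ker.card_mul_index
    rw [Subgroup.index_ker, MonoidHom.range_eq_top.2 hψ, Subgroup.card_top, h3, card_LL] at h
    omega
  set X := ((stabilizer LL (0 : Fin 112)).comap ψ).map K.subtype with hXdef
  have hcX : Nat.card X = 87480 := by
    rw [hXdef, Subgroup.card_map_of_injective K.subtype_injective]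
    have h := ((stabilizer LL (0 : Fin 112)).comap ψ).card_mul_index
    rw [Subgroup.index_comap_of_surjective _ hψ, index_stabilizer_of_transitive, Nat.card_fin,
      hK] at h
    omega
  have hXM : X = M := eq_M_of_le_N (by rintro _ ⟨x, hx, rfl⟩; exact hN x hx) hcX
  refine ⟨⟨hK, hXM ▸ Subgroup.map_subtype_le _, fun Y h1 h2 => ?_⟩, hXM⟩
  have hY : (Y.subgroupOf K).map K.subtype = Y := by
    rw [Subgroup.subgroupOf_map_subtype, inf_eq_left.2 h2]
  have hle : (stabilizer LL (0 : Fin 112)).comap ψ ≤ Y.subgroupOf K := fun x hx =>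
    h1 (hXM ▸ Subgroup.mem_map_of_mem _ hx)
  have hkerle : ψ.ker ≤ Y.subgroupOf K := fun x hx => hle (by
    show ψ x ∈ stabilizer LL (0 : Fin 112)
    rw [MonoidHom.mem_ker.1 hx]; exact one_mem _)
  have hback : ((Y.subgroupOf K).map ψ).comap ψ = Y.subgroupOf K := by
    rw [Subgroup.comap_map_eq]; exact sup_eq_left.2 hkerle
  have hst : stabilizer LL (0 : Fin 112) ≤ (Y.subgroupOf K).map ψ := fun l hl => by
    obtain ⟨x, rfl⟩ := hψ l
    exact Subgroup.mem_map_of_mem _ (hle hl)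
  rcases stab_maximal hst with e | e
  · left
    rw [← hY, ← hback, e]
    exact hXM
  · right
    rw [← hY, ← hback, e, Subgroup.comap_top, ← MonoidHom.range_eq_map, Subgroup.range_subtype]

/-- A triple cover of the group on lines. -/
def TripleCover {G' : Type*} [Group G'] (K : Subgroup G') : Prop :=
  Nat.card (Subgroup.center K) = 3 ∧ Nonempty (K ⧸ Subgroup.center K ≃* LL)

theorem TripleCover.congr {G₁ G₂ : Type*} [Group G₁] [Group G₂] (φ : G₁ ≃* G₂) {K : Subgroup G₁}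
    (h : TripleCover K) : TripleCover (K.map φ.toMonoidHom) := by
  let e : K ≃* K.map φ.toMonoidHom := φ.subgroupMap K
  obtain ⟨h3, ⟨f⟩⟩ := h
  refine ⟨?_, ⟨(QuotientGroup.congr _ _ e (PSUThreeTwo.map_center_eq e)).symm.trans f⟩⟩
  rw [← PSUThreeTwo.map_center_eq e, Subgroup.card_map_of_injective e.injective]
  exact h3

theorem tc_K1 : TripleCover K1 := by
  refine ⟨ker_eq_center ▸ card_ker, ⟨?_⟩⟩
  exact (QuotientGroup.quotientMulEquivOfEq ker_eq_center.symm).trans
    (QuotientGroup.quotientKerEquivOfSurjective rho1 rho1_surjective)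

theorem std_K1 : Std K1 :=
  (std_of_hom rho1 rho1_surjective card_ker fun _ hx => rho1_fix hx).1

theorem Std.map_delta' {K : Subgroup G} (h : Std K) : Std (K.map delta.toMonoidHom) :=
  h.map delta map_delta_M

/-- The second subgroup. -/
def K2 : Subgroup G := K1.map delta.toMonoidHom
/-- The third subgroup. -/
def K3 : Subgroup G := K2.map delta.toMonoidHom

theorem delta_pow_three (x : G) : delta (delta (delta x)) = x := by
  refine ext_e fun j => funext fun i => ?_
  rw [delta_ap, delta_ap, delta_ap]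
  have hd : ∀ k : Fin 6, dd k * dd k * dd k = 1 ∧ dd' k * dd' k * dd' k = 1 := by decide +kernel
  have hu : (fun k => dd' k * (dd' k * (dd' k * e j k))) = e j := funext fun k => by
    rw [← mul_assoc, ← mul_assoc, (hd k).2, one_mul]
  show dd i * (dd i * (dd i * ap x (fun k => dd' k * (dd' k * (dd' k * e j k))) i)) = ap x (e j) i
  rw [hu, ← mul_assoc, ← mul_assoc, (hd i).1, one_mul]

theorem eq_of_g1_mem {K : Subgroup G} (h : Std K) (hg : g1 ∈ K) : K = K1 := by
  refine (Subgroup.eq_of_le_of_card_ge (show K1 ≤ K from (Subgroup.closure_le _).2 ?_) (by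
    rw [h.card_K, card_K1])).symm
  rintro _ ⟨k, rfl⟩
  exact gens4_mem h.le hg k

theorem classify_std {K : Subgroup G} (h : Std K) : K = K1 ∨ K = K2 ∨ K = K3 := by
  have pull : ∀ {K : Subgroup G} {x : G}, delta x ∈ K → x ∈ K.map delta.symm.toMonoidHom :=
    fun {_ x} hx => ⟨delta x, hx, delta.symm_apply_apply x⟩
  have back : ∀ K : Subgroup G, (K.map delta.symm.toMonoidHom).map delta.toMonoidHom = K := fun K => by
    rw [Subgroup.map_map]
    convert Subgroup.map_id K
    ext x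
    simp
  rcases h.good with hg | hg | hg
  · exact Or.inl (eq_of_g1_mem h hg)
  · exact Or.inr (Or.inl (by rw [K2, ← eq_of_g1_mem h.map_delta (pull hg), back]))
  · refine Or.inr (Or.inr ?_)
    rw [K3, K2, ← eq_of_g1_mem h.map_delta.map_delta (pull (pull hg)), back, back]

theorem classify {K : Subgroup G} (h : TripleCover K) :
    ∃ g : G, K.map (MulAut.conj g).toMonoidHom = K1 ∨ K.map (MulAut.conj g).toMonoidHom = K2 ∨
      K.map (MulAut.conj g).toMonoidHom = K3 := by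
  obtain ⟨h3, ⟨f⟩⟩ := h
  let ψ : K →* LL := f.toMonoidHom.comp (QuotientGroup.mk' (Subgroup.center K))
  have hψ : Function.Surjective ψ := f.surjective.comp (QuotientGroup.mk'_surjective _)
  have hker : ψ.ker = Subgroup.center K := by
    ext x
    show f (QuotientGroup.mk x) = 1 ↔ _
    rw [MulEquiv.map_eq_one_iff, QuotientGroup.eq_one_iff]
  have hk : ∀ z ∈ ψ.ker, ∀ y, y * z = z * y := fun z hz y =>
    Subgroup.mem_center_iff.1 (hker ▸ hz) y
  obtain ⟨hc, hp, hn, hle, hnorm⟩ := pre81_facts ψ hψ hk (hker ▸ h3)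
  set E := (pre81 ψ).map K.subtype with hE
  have hcE : ∀ x ∈ E, ∀ y ∈ E, x * y = y * x := by
    rintro _ ⟨x, hx, rfl⟩ _ ⟨y, hy, rfl⟩
    rw [← map_mul, ← map_mul, hc x hx y hy]
  obtain ⟨g, hg⟩ := exists_conj_A (hp.map K.subtype) hcE
    (by rwa [Subgroup.card_map_of_injective K.subtype_injective])
  refine ⟨g, classify_std ?_⟩
  let e : K ≃* K.map (MulAut.conj g).toMonoidHom := (MulAut.conj g).subgroupMap K
  refine (std_of_hom (ψ.comp e.symm.toMonoidHom) (hψ.comp e.symm.surjective) ?_ ?_).1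
  · refine (Nat.card_congr (Equiv.subtypeEquiv e.toEquiv fun x => ?_)).symm.trans (hker ▸ h3)
    show ψ x = 1 ↔ ψ (e.symm (e x)) = 1
    rw [e.symm_apply_apply]
  · intro x hx
    have hx' : (e.symm x) ∈ (stabilizer LL (0 : Fin 112)).comap ψ := hx
    have hxe : x.1 = g * (e.symm x).1 * g⁻¹ := by
      conv_lhs => rw [← e.apply_symm_apply x]
      rfl
    refine mem_N_of_normalizes fun a ha => ?_
    rw [← hg] at ha ⊢
    obtain ⟨b, ⟨c, hcm, rfl⟩, rfl⟩ := ha
    refine ⟨(e.symm x * c * (e.symm x)⁻¹ : K), ⟨_, hnorm _ hx' c hcm, rfl⟩, ?_⟩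
    rw [hxe]
    show g * ((e.symm x).1 * c.1 * ((e.symm x).1)⁻¹) * g⁻¹ = _
    show _ = g * (e.symm x).1 * g⁻¹ * (g * c.1 * g⁻¹) * (g * (e.symm x).1 * g⁻¹)⁻¹
    group

/-! ### Non-conjugacy -/

theorem normalizer_A_conj {K K' : Subgroup G} (h : Std K) (h' : Std K') {g : G}
    (hg : K.map (MulAut.conj g).toMonoidHom = K') :
    ∃ n ∈ N, K.map (MulAut.conj n).toMonoidHom = K' := by
  haveI : Fact (Nat.Prime 3) := ⟨Nat.prime_three⟩
  let B := A.map (MulAut.conj g).toMonoidHom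
  have hB : B ≤ K' := hg ▸ Subgroup.map_mono (A_le_M.trans h.le)
  have hA : A ≤ K' := A_le_M.trans h'.le
  have hpA : IsPGroup 3 A := IsPGroup.of_card (n := 5) (by rw [card_A]; norm_num)
  have hpB : IsPGroup 3 B := hpA.map _
  obtain ⟨S, hS⟩ := (hpA.comap_of_injective K'.subtype K'.subtype_injective).exists_le_sylow
  obtain ⟨T, hT⟩ := (hpB.comap_of_injective K'.subtype K'.subtype_injective).exists_le_sylow
  obtain ⟨k, hk⟩ := MulAction.exists_smul_eq K' T S
  have hBk : B.map (MulAut.conj k.1).toMonoidHom ≤ (S : Subgroup K').map K'.subtype := by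
    rintro _ ⟨b, hb, rfl⟩
    refine ⟨k * ⟨b, hB hb⟩ * k⁻¹, ?_, by simp⟩
    have hbT : (⟨b, hB hb⟩ : K') ∈ (T : Subgroup K') :=
      hT (show (⟨b, hB hb⟩ : K') ∈ B.comap K'.subtype from hb)
    rw [← hk, Sylow.coe_subgroup_smul]
    exact Subgroup.smul_mem_pointwise_smul _ (MulAut.conj k) _ hbT
  have hAS : A ≤ (S : Subgroup K').map K'.subtype := fun a ha =>
    ⟨⟨a, hA ha⟩, hS (show (⟨a, hA ha⟩ : K') ∈ A.comap K'.subtype from ha), rfl⟩
  have hcA : ∀ x ∈ A, ∀ y ∈ A, x * y = y * x := fun x hx y hy => A_comm hx hy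
  have hBA : B.map (MulAut.conj k.1).toMonoidHom = A :=
    abelian_unique (S.isPGroup'.map K'.subtype) hBk hAS (comm_map (comm_map hcA g) k.1) hcA
      (by rw [Subgroup.card_map_of_injective (MulAut.conj k.1).injective,
        Subgroup.card_map_of_injective (MulAut.conj g).injective, card_A])
      (by rw [card_A])
  refine ⟨k.1 * g, mem_N_of_normalizes fun a ha => ?_, ?_⟩
  · rw [← hBA]
    exact ⟨g * a * g⁻¹, ⟨a, ha, rfl⟩, by
      show k.1 * (g * a * g⁻¹) * k.1⁻¹ = k.1 * g * a * (k.1 * g)⁻¹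
      group⟩
  · rw [map_mul, show ((MulAut.conj k.1 * MulAut.conj g : MulAut G)).toMonoidHom =
        (MulAut.conj k.1).toMonoidHom.comp (MulAut.conj g).toMonoidHom from rfl,
      ← Subgroup.map_map, hg]
    exact Subgroup.conj_smul_eq_self_of_mem k.2

theorem not_conj_checks :
    (∀ k : Fin 112, ¬ ∀ j : Fin 6, ∃ j', pc (ap (delta g1) (e j)) = fcode k j') ∧
    (∀ k : Fin 112, ¬ ∀ j : Fin 6, ∃ j', pc (ap (delta (delta g1)) (e j)) = fcode k j') ∧
    (∀ k : Fin 112, ¬ ∀ j : Fin 6, ∃ j', pc (ap n0 (ap (delta g1) (ap n0 (e j)))) = fcode k j') ∧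
    (∀ k : Fin 112, ¬ ∀ j : Fin 6,
      ∃ j', pc (ap n0 (ap (delta (delta g1)) (ap n0 (e j)))) = fcode k j') := by
  decide +kernel

theorem frame_of_mem {x : G} (hx : x ∈ K1) :
    ∃ k : Fin 112, ∀ j : Fin 6, ∃ j', pc (ap x (e j)) = fcode k j' := by
  refine ⟨sig ⟨x, hx⟩ 0, fun j => ?_⟩
  obtain ⟨i, hi⟩ := fcode_facts.2.2.2 j
  obtain ⟨j', hj'⟩ := sig_spec ⟨x, hx⟩ 0 i
  rw [hi, vec_code] at hj'
  exact ⟨j', hj'⟩

theorem not_conj_aux {y : G}
    (h1 : ∀ k : Fin 112, ¬ ∀ j : Fin 6, ∃ j', pc (ap y (e j)) = fcode k j')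
    (h2 : ∀ k : Fin 112, ¬ ∀ j : Fin 6, ∃ j', pc (ap n0 (ap y (ap n0 (e j)))) = fcode k j')
    {K : Subgroup G} (hK : Std K) (hy : y ∈ K) :
    ¬ ∃ g : G, K1.map (MulAut.conj g).toMonoidHom = K := by
  rintro ⟨g, hg⟩
  obtain ⟨n, hn, hnK⟩ := normalizer_A_conj std_K1 hK hg
  rw [← hnK] at hy
  obtain ⟨x, hx, hxy⟩ := hy
  have hxy' : n * x * n⁻¹ = y := hxy
  rcases mem_N_cases hn with hm | hm
  · have : y ∈ K1 := hxy' ▸ mul_mem (mul_mem (std_K1.le hm) hx) (inv_mem (std_K1.le hm))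
    obtain ⟨k, hk⟩ := frame_of_mem this
    exact h1 k hk
  · have : n0 * y * n0 ∈ K1 := by
      have := mul_mem (mul_mem (std_K1.le hm) hx) (inv_mem (std_K1.le hm))
      rw [mul_inv_rev, inv_eq_of_mul_eq_one_right n0_mul_self] at this
      rw [← hxy']
      simpa only [mul_assoc] using this
    obtain ⟨k, hk⟩ := frame_of_mem this
    exact h2 k fun j => by
      obtain ⟨j', hj'⟩ := hk j
      exact ⟨j', by rwa [ap_mul, ap_mul] at hj'⟩

theorem not_conj12 : ¬ ∃ g : G, K1.map (MulAut.conj g).toMonoidHom = K2 :=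
  not_conj_aux not_conj_checks.1 not_conj_checks.2.2.1 std_K1.map_delta'
    (Subgroup.mem_map_of_mem _ (gens_mem_K1 3))

theorem not_conj13 : ¬ ∃ g : G, K1.map (MulAut.conj g).toMonoidHom = K3 :=
  not_conj_aux not_conj_checks.2.1 not_conj_checks.2.2.2 std_K1.map_delta'.map_delta'
    (Subgroup.mem_map_of_mem _ (Subgroup.mem_map_of_mem _ (gens_mem_K1 3)))

theorem map_conj_comm (φ : G ≃* G) (g : G) (K : Subgroup G) :
    (K.map (MulAut.conj g).toMonoidHom).map φ.toMonoidHom =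
      (K.map φ.toMonoidHom).map (MulAut.conj (φ g)).toMonoidHom := by
  rw [Subgroup.map_map, Subgroup.map_map]
  congr 1
  ext x
  simp

theorem not_conj23 : ¬ ∃ g : G, K2.map (MulAut.conj g).toMonoidHom = K3 := by
  rintro ⟨g, hg⟩
  refine not_conj12 ⟨delta.symm g, Subgroup.map_injective (f := delta.toMonoidHom) delta.injective ?_⟩
  rw [map_conj_comm, MulEquiv.apply_symm_apply]
  exact hg

/-- The statement over the field with four elements. -/
theorem three_classes : ∃ L₁ L₂ L₃ : Subgroup G, (∀ K ∈ [L₁, L₂, L₃], TripleCover K) ∧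
    (¬ ∃ g : G, L₁.map (MulAut.conj g).toMonoidHom = L₂) ∧
    (¬ ∃ g : G, L₁.map (MulAut.conj g).toMonoidHom = L₃) ∧
    (¬ ∃ g : G, L₂.map (MulAut.conj g).toMonoidHom = L₃) ∧
    ∀ K : Subgroup G, TripleCover K → ∃ g : G, K.map (MulAut.conj g).toMonoidHom = L₁ ∨
      K.map (MulAut.conj g).toMonoidHom = L₂ ∨ K.map (MulAut.conj g).toMonoidHom = L₃ := by
  refine ⟨K1, K2, K3, ?_, not_conj12, not_conj13, not_conj23, fun K => classify⟩
  intro K hK
  simp only [List.mem_cons, List.not_mem_nil, or_false] at hK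
  rcases hK with rfl | rfl | rfl
  exacts [tc_K1, tc_K1.congr delta, (tc_K1.congr delta).congr delta]

end Cfsg.Agent.Lib.SU6U43
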