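import Cfsg.Agent.Lib.SU6U43.Gens

/-!
The finite checks behind the orbits of the even monomial group on unit vectors.
-/

set_option autoImplicit false
set_option maxRecDepth 20000

namespace Cfsg.Agent.Lib.SU6U43

open Cfsg.Agent.Lib.CosetTable.HeSp44 (K4)

/-- A node of the trees. -/
def node (i : ℕ) : ℕ × ℕ × ℕ := Data.tree.getD i (0, 3, 0)

/-- The three roots. -/
def root (t : Fin 3) : V := vec ([1, 21, 341].getD t.val 0)

/-- The mask of the nodes. -/
def treeMask : ℕ := Data.tree.foldl (fun acc x => Nat.lor acc (Nat.shiftLeft 1 x.1)) 0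

theorem tree_nodes : ∀ i : Fin 2016,
    if (node i.val).2.1 < 3 then
      (node i.val).2.2 < i.val ∧
        code (fgen (Fin.ofNat 4 (node i.val).2.1) (vec (node (node i.val).2.2).1)) = (node i.val).1
    else ∃ t : Fin 3, code (root t) = (node i.val).1 := by
  decide +kernel

theorem tree_cover :
    (Data.tree.length = 2016) ∧
    (∀ t : Fin 3, wt (root t) = 2 * t.val + 1) ∧
    (∀ u : V, unitV u → treeMask.testBit (code u) = true ∧ (wt u = 1 ∨ wt u = 3 ∨ wt u = 5)) := by
  decide +kernel

theorem wt_facts :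
    ((Finset.univ.filter fun u : V => unitV u ∧ wt u = 1).card = 18) ∧
    ((Finset.univ.filter fun u : V => unitV u ∧ (wt u = 1 ∨ wt u = 3)).card = 558) ∧
    ((Finset.univ.filter fun u : V => unitV u ∧ (wt u = 1 ∨ wt u = 5)).card = 1476) ∧
    ((Finset.univ.filter fun u : V => unitV u).card = 2016) ∧
    (∀ j : Fin 6, wt (e j) = 1) ∧
    (∀ u : V, wt u = 1 → ∃ j, ∃ c : K4, u = fun i => c * e j i) := by
  decide +kernel

end Cfsg.Agent.Lib.SU6U43
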