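import Cfsg.Agent.Lib.SU6U43.OrbitChecks

/-!
The orbits of the even monomial group on unit vectors, and orbit counting.
-/

set_option autoImplicit false
set_option maxRecDepth 20000

namespace Cfsg.Agent.Lib.SU6U43

open Cfsg.Agent.Lib.CosetTable.HeSp44 (K4)

theorem mem_tree {n : ℕ} (h : treeMask.testBit n = true) : ∃ i : Fin 2016, (node i.val).1 = n := by
  have key : ∀ (l : List (ℕ × ℕ × ℕ)) (acc : ℕ),
      (l.foldl (fun acc x => Nat.lor acc (Nat.shiftLeft 1 x.1)) acc).testBit n = true →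
      acc.testBit n = true ∨ ∃ x ∈ l, x.1 = n := by
    intro l
    induction l with
    | nil => exact fun acc h => Or.inl h
    | cons x l ih =>
      intro acc h
      rcases ih _ h with h' | ⟨y, hy, hy'⟩
      · have h'' : (acc ||| 1 <<< x.1).testBit n = true := h'
        rw [Nat.testBit_or, Bool.or_eq_true, Nat.one_shiftLeft, Nat.testBit_two_pow] at h''
        rcases h'' with h'' | h''
        · exact Or.inl h''
        · exact Or.inr ⟨x, List.mem_cons_self, of_decide_eq_true h''⟩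
      · exact Or.inr ⟨y, List.mem_cons_of_mem _ hy, hy'⟩
  rcases key _ _ h with h' | ⟨x, hx, rfl⟩
  · simp at h'
  · obtain ⟨i, hi, rfl⟩ := List.getElem_of_mem hx
    refine ⟨⟨i, by rw [← tree_cover.1]; exact hi⟩, ?_⟩
    rw [node, List.getD_eq_getElem _ _ hi]

theorem node_reach : ∀ (i : ℕ), i < 2016 →
    ∃ (t : Fin 3) (m : G), m ∈ M ∧ ap m (root t) = vec (node i).1 := by
  intro i
  induction i using Nat.strong_induction_on with
  | _ i ih =>
    intro hi
    have h := tree_nodes ⟨i, hi⟩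
    by_cases hk : (node i).2.1 < 3
    · rw [if_pos hk] at h
      obtain ⟨t, m, hm, hmr⟩ := ih _ h.1 (by have := h.1; simp only at this; omega)
      refine ⟨t, gens4 1 (Fin.ofNat 4 (node i).2.1) * m,
        mul_mem (gens4_mem le_rfl (one_mem _) _) hm, ?_⟩
      rw [ap_mul, hmr, fgen_eq]
      have := congrArg vec h.2
      rwa [vec_code] at this
    · rw [if_neg hk] at h
      obtain ⟨t, ht⟩ := h
      exact ⟨t, 1, one_mem _, by rw [ap_one, ← vec_code (root t), ht]⟩

theorem wt_perm_smul (σ : Equiv.Perm (Fin 6)) (c : Fin 6 → K4) (hc : ∀ i, c i ≠ 0) (u : V) :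
    wt (fun i => c i * u (σ i)) = wt u := by
  refine Finset.card_equiv σ fun i => ?_
  simp [hc i]

theorem wt_ap {m : G} (hm : m ∈ N) (u : V) : wt (ap m u) = wt u := by
  obtain ⟨σ, hσ⟩ := hm
  have hy : (pm σ)⁻¹ * m ∈ A := by
    have h := mono_mul (mono_inv (pm_mono σ)) hσ
    rwa [inv_mul_cancel] at h
  obtain ⟨d, hd⟩ := mem_A_iff.1 hy
  have : m = pm σ * dg d := by rw [hd, mul_inv_cancel_left]
  rw [this, ap_mul]
  have e1 : ap (pm σ) (ap (dg d) u) = fun i => d.1 (σ.symm i) * u (σ.symm i) := by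
    funext i
    rw [pm_ap_apply, dg_ap]
  rw [e1]
  exact wt_perm_smul σ.symm (fun i => d.1 (σ.symm i)) (fun i => AT_ne d _) u

theorem M_reach {u : V} (hu : unitV u) :
    ∃ (t : Fin 3) (m : G), m ∈ M ∧ ap m (root t) = u ∧ wt u = 2 * t.val + 1 := by
  obtain ⟨i, hi⟩ := mem_tree (tree_cover.2.2 u hu).1
  obtain ⟨t, m, hm, hmr⟩ := node_reach i.val i.isLt
  rw [hi, vec_code] at hmr
  exact ⟨t, m, hm, hmr, by rw [← hmr, wt_ap (M_le_N hm), tree_cover.2.1]⟩

theorem M_transitive {u u' : V} (hu : unitV u) (hu' : unitV u') (h : wt u = wt u') :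
    ∃ m ∈ M, ap m u = u' := by
  obtain ⟨t, m, hm, rfl, ht⟩ := M_reach hu
  obtain ⟨t', m', hm', rfl, ht'⟩ := M_reach hu'
  obtain rfl : t = t' := Fin.ext (by omega)
  exact ⟨m' * m⁻¹, mul_mem hm' (inv_mem hm), by rw [ap_mul, ap_inv_self]⟩

/-! ### Counting -/

/-- The orbit of the first unit vector. -/
noncomputable def orbF (H : Subgroup G) : Finset V := by
  classical exact Finset.univ.filter fun u => ∃ x ∈ H, ap x (e 0) = u

theorem mem_orbF {H : Subgroup G} {u : V} : u ∈ orbF H ↔ ∃ x ∈ H, ap x (e 0) = u := by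
  classical simp [orbF]

/-- The stabiliser of the first unit vector. -/
def St : Subgroup G where
  carrier := {x | ap x (e 0) = e 0}
  mul_mem' := fun {x y} (hx : ap x (e 0) = e 0) (hy : ap y (e 0) = e 0) => by
    show ap (x * y) (e 0) = e 0
    rw [ap_mul, hy, hx]
  one_mem' := ap_one _
  inv_mem' := fun {x} (hx : ap x (e 0) = e 0) => by
    show ap x⁻¹ (e 0) = e 0
    conv_lhs => rw [← hx]
    exact ap_inv_self x _

theorem card_orbF (H : Subgroup G) : (orbF H).card * Nat.card (H ⊓ St : Subgroup G) = Nat.card H := by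
  letI := actV
  have hs : MulAction.stabilizer H (e 0) = St.subgroupOf H := by ext; rfl
  have ho : Nat.card (MulAction.orbit H (e 0)) = (orbF H).card := by
    rw [Nat.card_coe_set_eq, ← Set.ncard_coe_finset]
    congr 1
    ext u
    rw [Finset.mem_coe, mem_orbF]
    exact ⟨fun ⟨x, hx⟩ => ⟨x.1, x.2, hx⟩, fun ⟨x, hxH, hx⟩ => ⟨⟨x, hxH⟩, hx⟩⟩
  have h := Nat.card_congr (MulAction.orbitProdStabilizerEquivGroup H (e 0))
  have hs' : Nat.card (MulAction.stabilizer H (e 0)) = Nat.card (H ⊓ St : Subgroup G) := by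
    rw [hs, ← Subgroup.inf_subgroupOf_left]
    exact Nat.card_congr (Subgroup.subgroupOfEquivOfLe inf_le_left).toEquiv
  rw [← hs', ← ho, ← Nat.card_prod]
  exact h

theorem orbF_unit {H : Subgroup G} {u : V} (h : u ∈ orbF H) : unitV u := by
  obtain ⟨x, -, rfl⟩ := mem_orbF.1 h
  exact unit_ap_e x 0

theorem orbF_M : orbF M = Finset.univ.filter fun u : V => unitV u ∧ wt u = 1 := by
  ext u
  simp only [Finset.mem_filter, Finset.mem_univ, true_and]
  constructor
  · intro h
    obtain ⟨x, hx, rfl⟩ := mem_orbF.1 h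
    exact ⟨unit_ap_e x 0, by rw [wt_ap (M_le_N hx), wt_facts.2.2.2.2.1]⟩
  · rintro ⟨hu, hw⟩
    have h0 : unitV (e 0) := by rw [← ap_one (e 0)]; exact unit_ap_e 1 0
    obtain ⟨m, hm, hmu⟩ := M_transitive h0 hu (by rw [hw, wt_facts.2.2.2.2.1])
    exact mem_orbF.2 ⟨m, hm, hmu⟩

theorem card_M_inf_St : Nat.card (M ⊓ St : Subgroup G) = 4860 := by
  have h := card_orbF M
  rw [orbF_M, wt_facts.1, card_M] at h
  omega

end Cfsg.Agent.Lib.SU6U43
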